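import Mathlib

/-!
Seven relations give a Carmichael system of three cycles up to a central involution,
together with the shift by `t`.
-/

set_option autoImplicit false

namespace Cfsg.Agent.Lib.ShortPres

open Subgroup

variable {G : Type*} [Group G]

/-- The twisted conjugates of `x` under the powers of `t`, indexed modulo `m`. -/
def yv {m : ℕ} (f : ℤˣ) (x t : G) (i : ZMod m) : G :=
  (t ^ i.val * x * (t ^ i.val)⁻¹) ^ ((f ^ i.val : ℤˣ) : ℤ)

theorem map_yv {H : Type*} [Group H] {m : ℕ} (F : G →* H) (f : ℤˣ) (x t : G) (i : ZMod m) :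
    F (yv f x t i) = yv f (F x) (F t) i := by
  simp only [yv, map_zpow, map_mul, map_inv, map_pow]

/-- The rules derived from the seven relations. -/
structure Rules (m : ℕ) (f : ℤˣ) (x t : G) : Prop where
  base : yv f x t (0 : ZMod m) = x
  sq : (x ^ 3) ^ 2 = 1
  comm : Commute t (x ^ 3)
  cube : ∀ i : ZMod m, yv f x t i ^ 3 = x ^ 3
  pair : ∀ i j : ZMod m, i ≠ j → (yv f x t i * yv f x t j) ^ 2 = x ^ 3
  shift : ∀ i : ZMod m, t * yv f x t i * t⁻¹ = yv f x t (i + 1) ^ (f : ℤ)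

/-- The seven relations. -/
structure Seven (p n m : ℕ) (f : ℤˣ) (x t a b : G) : Prop where
  r1 : a ^ p = 1
  r2 : b * a * b⁻¹ = a ^ n
  r3 : b * x * b⁻¹ = x⁻¹
  r4 : (x * (a * x * a⁻¹)) ^ 2 = x ^ 3
  r5 : a⁻¹ * t * b = b * (a⁻¹ * t)
  r6 : a⁻¹ * t * (a * x * a⁻¹) * (a⁻¹ * t)⁻¹ = (a * x * a⁻¹) ^ (f : ℤ)
  r7 : t ^ m * x * (t ^ m)⁻¹ = x ^ ((f ^ m : ℤˣ) : ℤ)

/-- Both products have square `z`. -/
def Dual (z a b : G) : Prop := (a * b) ^ 2 = z ∧ (b * a) ^ 2 = z

theorem inv_mul_inv_sq (a b : G) : (a⁻¹ * b⁻¹) ^ 2 = ((b * a) ^ 2)⁻¹ := by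
  rw [← inv_pow, mul_inv_rev]

theorem Dual.symm {z a b : G} (h : Dual z a b) : Dual z b a := ⟨h.2, h.1⟩

theorem Dual.unit {z a b : G} (h : Dual z a b) (hz : z⁻¹ = z) (e : ℤˣ) :
    Dual z (a ^ (e : ℤ)) (b ^ (e : ℤ)) := by
  rcases Int.units_eq_one_or e with rfl | rfl
  · simpa using h
  · simp only [Units.val_neg, Units.val_one, zpow_neg, zpow_one]
    exact ⟨by rw [inv_mul_inv_sq, h.2, hz], by rw [inv_mul_inv_sq, h.1, hz]⟩

theorem Dual.conj {z a b : G} (h : Dual z a b) (w : G) :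
    Dual (w * z * w⁻¹) (w * a * w⁻¹) (w * b * w⁻¹) := by
  constructor
  · rw [show w * a * w⁻¹ * (w * b * w⁻¹) = w * (a * b) * w⁻¹ by group, conj_pow, h.1]
  · rw [show w * b * w⁻¹ * (w * a * w⁻¹) = w * (b * a) * w⁻¹ by group, conj_pow, h.2]

theorem cube_zpow (w : G) (k : ℤ) : (w ^ k) ^ 3 = (w ^ 3) ^ k := by
  rw [← zpow_natCast, ← zpow_mul, mul_comm, zpow_mul, zpow_natCast]

theorem zpow_unit_unit (w : G) (u v : ℤˣ) : (w ^ (u : ℤ)) ^ (v : ℤ) = w ^ ((u * v : ℤˣ) : ℤ) := by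
  rw [Units.val_mul, zpow_mul]

section derive

variable {p n m : ℕ} [Fact p.Prime] [NeZero m] {f : ℤˣ} {x t a b : G}

theorem derive (h : Seven p n m f x t a b)
    (hgen : ∀ i : ZMod p, i ≠ 0 → ∃ k : ℕ, i = (n : ZMod p) ^ k)
    (hpm : p ≤ m) (hmp : m + 1 ≤ 2 * p)
    (hb : b ∈ closure (Set.range (yv (m := m) f x t))) :
    Rules m f x t ∧ Commute a (x ^ 3) := by
  have hp : p.Prime := Fact.out
  set z := x ^ 3 with hz
  let A : ZMod p → G := fun i => a ^ i.val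
  have hAc : ∀ k : ℕ, A (k : ZMod p) = a ^ k := fun k => by
    show a ^ (k : ZMod p).val = a ^ k
    rw [ZMod.val_natCast, ← pow_eq_pow_mod k h.r1]
  have hA : ∀ i j, A (i + j) = A i * A j := fun i j => by
    show a ^ (i + j).val = a ^ i.val * a ^ j.val
    rw [ZMod.val_add, ← pow_eq_pow_mod _ h.r1, pow_add]
  have hA0 : A 0 = 1 := by simpa using hAc 0
  have hA1 : A 1 = a := by simpa using hAc 1
  let X : ZMod p → G := fun i => A i * x * (A i)⁻¹
  have hX0 : X 0 = x := by simp [X, hA0]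
  have hX1 : X 1 = a * x * a⁻¹ := by simp [X, hA1]
  have hXa : ∀ i j, A i * X j * (A i)⁻¹ = X (i + j) := fun i j => by
    simp only [X, hA]; group
  have hbA : ∀ i, b * A i * b⁻¹ = A ((n : ZMod p) * i) := fun i => by
    rw [← ZMod.natCast_zmod_val i, ← Nat.cast_mul, hAc, hAc, ← conj_pow, h.r2, pow_mul]
  have hbX : ∀ i, b * X i * b⁻¹ = (X ((n : ZMod p) * i))⁻¹ := fun i => by
    simp only [X]
    rw [← hbA, show b * (A i * x * (A i)⁻¹) * b⁻¹ =
      (b * A i * b⁻¹) * (b * x * b⁻¹) * (b * A i * b⁻¹)⁻¹ by group, h.r3]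
    group
  have hbz : b * z * b⁻¹ = z⁻¹ := by rw [hz, ← conj_pow, h.r3, inv_pow]
  -- `x` against the others
  have hstar : ∀ i : ZMod p, i ≠ 0 → Dual z (X 0) (X i) := by
    have step : ∀ k : ℕ, Dual z (X 0) (X ((n : ZMod p) ^ k)) := by
      intro k
      induction k with
      | zero =>
        rw [pow_zero, hX0, hX1]
        refine ⟨h.r4, ?_⟩
        rw [show a * x * a⁻¹ * x = x⁻¹ * (x * (a * x * a⁻¹)) * (x⁻¹)⁻¹ by group, conj_pow, h.r4]
        rw [hz]; group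
      | succ k ih =>
        have := ih.conj b
        rw [hbz, hbX, hbX, mul_zero] at this
        rw [pow_succ']
        obtain ⟨h1, h2⟩ := this
        rw [inv_mul_inv_sq, inv_inj] at h1 h2
        exact ⟨h2, h1⟩
    intro i hi
    obtain ⟨k, rfl⟩ := hgen i hi
    exact step k
  have hshifted : ∀ i j : ZMod p, i ≠ j → Dual (X i ^ 3) (X i) (X j) := by
    intro i j hij
    have := (hstar (j - i) (sub_ne_zero.2 hij.symm)).conj (A i)
    rwa [hXa, hXa, add_zero, add_sub_cancel, hz, ← conj_pow,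
      show A i * x * (A i)⁻¹ = X i from rfl] at this
  have hXcube : ∀ i, X i ^ 3 = z := by
    intro i
    rcases eq_or_ne i 0 with rfl | hi
    · rw [hX0]
    · rw [hz, ← hX0, ← (hshifted i 0 hi).1, ← (hshifted 0 i hi.symm).2]
  have hXpair : ∀ i j : ZMod p, i ≠ j → Dual z (X i) (X j) := fun i j hij => by
    rw [← hXcube i]; exact hshifted i j hij
  have haz : a * z * a⁻¹ = z := by
    rw [hz, ← conj_pow, ← hX1, hXcube]
  -- the twist
  set u := a⁻¹ * t with hu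
  have hux : ∀ i : ZMod p, i ≠ 0 → u * X i * u⁻¹ = X i ^ (f : ℤ) := by
    have step : ∀ k : ℕ, u * X ((n : ZMod p) ^ k) * u⁻¹ = X ((n : ZMod p) ^ k) ^ (f : ℤ) := by
      intro k
      induction k with
      | zero => rw [pow_zero, hX1]; exact h.r6
      | succ k ih =>
        rw [pow_succ']
        have e : X ((n : ZMod p) * (n : ZMod p) ^ k) = b * (X ((n : ZMod p) ^ k))⁻¹ * b⁻¹ := by
          rw [← inv_inv (X ((n : ZMod p) * (n : ZMod p) ^ k)), ← hbX]; group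
        rw [e, conj_zpow, inv_zpow, ← ih]
        have hc : u * b = b * u := h.r5
        calc u * (b * (X ((n : ZMod p) ^ k))⁻¹ * b⁻¹) * u⁻¹
            = (u * b) * (X ((n : ZMod p) ^ k))⁻¹ * (u * b)⁻¹ := by group
          _ = _ := by rw [hc]; group
    intro i hi
    obtain ⟨k, rfl⟩ := hgen i hi
    exact step k
  have htx : ∀ i : ZMod p, i ≠ 0 → t * X i * t⁻¹ = X (i + 1) ^ (f : ℤ) := by
    intro i hi
    rw [show t * X i * t⁻¹ = a * (u * X i * u⁻¹) * a⁻¹ by rw [hu]; group, hux i hi, ← conj_zpow]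
    congr 1
    rw [← hA1, hXa, add_comm]
  have htz : t * z * t⁻¹ = z ^ (f : ℤ) := by
    rw [← hXcube 1, ← conj_pow, htx 1 one_ne_zero, cube_zpow, hXcube, hXcube]
  -- the conjugates indexed by integers
  let Y : ℤ → G := fun j => (t ^ j * x * (t ^ j)⁻¹) ^ ((f ^ j : ℤˣ) : ℤ)
  have hff : ∀ j : ℤ, f ^ j * f ^ j = 1 := fun j => Int.units_mul_self _
  have hYshift : ∀ i j : ℤ, t ^ j * Y i * (t ^ j)⁻¹ = Y (i + j) ^ ((f ^ j : ℤˣ) : ℤ) := by
    intro i j
    simp only [Y]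
    rw [zpow_unit_unit, zpow_add f, mul_assoc (f ^ i), hff, mul_one, ← conj_zpow, add_comm i j, zpow_add t]
    congr 1
    group
  have hY1 : ∀ i : ℤ, t * Y i * t⁻¹ = Y (i + 1) ^ (f : ℤ) := fun i => by
    simpa using hYshift i 1
  have hY0 : Y 0 = x := by simp [Y]
  have hYX : ∀ k : ℕ, k < p → Y (-(k : ℤ)) = X (-(k : ZMod p)) := by
    intro k
    induction k with
    | zero => intro _; simp only [Nat.cast_zero, neg_zero]; rw [hY0, hX0]
    | succ k ih =>
      intro hk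
      have h1 : t * Y (-((k + 1 : ℕ) : ℤ)) * t⁻¹ = X (-(k : ZMod p)) ^ (f : ℤ) := by
        rw [hY1, ← ih (by omega)]
        congr 2; push_cast; ring
      have h2 : t * X (-((k + 1 : ℕ) : ZMod p)) * t⁻¹ = X (-(k : ZMod p)) ^ (f : ℤ) := by
        rw [htx]
        · congr 2; push_cast; ring
        · rw [ne_eq, neg_eq_zero, ZMod.natCast_eq_zero_iff]
          exact fun hd => absurd (Nat.le_of_dvd (by omega) hd) (by omega)
      rw [← h2] at h1
      exact mul_left_cancel (mul_right_cancel h1)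
  have htzj : ∀ j : ℤ, t ^ j * z * (t ^ j)⁻¹ = z ^ ((f ^ j : ℤˣ) : ℤ) := by
    intro j
    induction j with
    | zero => simp
    | succ j ih =>
      rw [show t ^ ((j : ℤ) + 1) * z * (t ^ ((j : ℤ) + 1))⁻¹ = t * (t ^ (j : ℤ) * z * (t ^ (j : ℤ))⁻¹) * t⁻¹ by
        group, ih, ← conj_zpow, htz, zpow_unit_unit, zpow_add_one, mul_comm f]
    | pred j ih =>
      have e : t⁻¹ * z * t = z ^ (f : ℤ) := by
        have h' := congrArg (fun w => (t⁻¹ * w * t) ^ (f : ℤ)) htz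
        rw [show t⁻¹ * (t * z * t⁻¹) * t = z by group] at h'
        have e2 : t⁻¹ * z ^ (f : ℤ) * t = (t⁻¹ * z * t) ^ (f : ℤ) := by
          simpa using (conj_zpow (i := (f : ℤ)) (a := t⁻¹) (b := z)).symm
        rw [e2, zpow_unit_unit, Int.units_mul_self, Units.val_one, zpow_one] at h'
        exact h'.symm
      rw [show t ^ (-(j : ℤ) - 1) * z * (t ^ (-(j : ℤ) - 1))⁻¹ =
        t⁻¹ * (t ^ (-(j : ℤ)) * z * (t ^ (-(j : ℤ)))⁻¹) * t by group, ih]
      have e2 : t⁻¹ * z ^ ((f ^ (-(j : ℤ)) : ℤˣ) : ℤ) * t = (t⁻¹ * z * t) ^ ((f ^ (-(j : ℤ)) : ℤˣ) : ℤ) := by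
        simpa using (conj_zpow (i := ((f ^ (-(j : ℤ)) : ℤˣ) : ℤ)) (a := t⁻¹) (b := z)).symm
      rw [e2, e, zpow_unit_unit, zpow_sub_one, mul_comm f, Int.units_inv_eq_self]
  have hYcube : ∀ j : ℤ, Y j ^ 3 = z := fun j => by
    simp only [Y]
    rw [cube_zpow, conj_pow, ← hz, htzj, zpow_unit_unit, hff, Units.val_one, zpow_one]
  have hper : Function.Periodic Y (m : ℤ) := fun j => by
    simp only [Y]
    rw [show t ^ (j + (m : ℤ)) * x * (t ^ (j + (m : ℤ)))⁻¹ =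
      t ^ j * (t ^ m * x * (t ^ m)⁻¹) * (t ^ j)⁻¹ by rw [zpow_add, zpow_natCast]; group,
      h.r7, ← conj_zpow, zpow_unit_unit, zpow_add f, zpow_natCast, mul_left_comm,
      Int.units_mul_self, mul_one]
  have hym : ∀ i : ZMod m, yv f x t i = Y (i.val : ℤ) := fun i => by
    simp only [yv, Y, zpow_natCast]
  have hymc : ∀ j : ℤ, yv f x t ((j : ℤ) : ZMod m) = Y j := fun j => by
    rw [hym, ZMod.val_intCast, Int.emod_def, mul_comm]
    exact hper.sub_int_mul_eq (j / (m : ℤ))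
  -- the cube is central of order at most two
  have hbz' : Commute b z := by
    have : b ∈ centralizer ({z} : Set G) := by
      refine (closure_le _).2 ?_ hb
      rintro _ ⟨i, rfl⟩
      rw [SetLike.mem_coe, mem_centralizer_singleton_iff, hym, ← hYcube (i.val : ℤ)]
      exact ((Commute.refl _).pow_right 3).eq
    exact mem_centralizer_singleton_iff.1 this
  have hzi : z⁻¹ = z := by
    rw [← hbz, hbz'.eq, mul_inv_cancel_right]
  have hzu : ∀ e : ℤˣ, z ^ (e : ℤ) = z := fun e => by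
    rcases Int.units_eq_one_or e with rfl | rfl <;> simp [hzi]
  have htzc : ∀ j : ℤ, t ^ j * z * (t ^ j)⁻¹ = z := fun j => by rw [htzj, hzu]
  have hclose : ∀ (i : ℤ) (d : ℕ), 0 < d → d < p → Dual z (Y i) (Y (i + d)) := by
    intro i d hd0 hdp
    have hne : (-(d : ZMod p)) ≠ 0 := by
      rw [ne_eq, neg_eq_zero, ZMod.natCast_eq_zero_iff]
      exact fun hd => absurd (Nat.le_of_dvd hd0 hd) (by omega)
    have h0 : Dual z (Y (-(d : ℤ))) (Y 0) := by
      rw [hYX d hdp, hY0, ← hX0]; exact hXpair _ _ hne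
    have h1 := h0.conj (t ^ (i + d))
    rw [htzc, hYshift, hYshift, show -(d : ℤ) + (i + d) = i by ring, zero_add] at h1
    have h2 := h1.unit hzi (f ^ (i + (d : ℤ)))
    rwa [zpow_unit_unit (Y i), zpow_unit_unit (Y (i + (d : ℤ))), hff, Units.val_one, zpow_one, zpow_one] at h2
  refine ⟨⟨?_, ?_, ?_, fun i => ?_, fun i j hij => ?_, fun i => ?_⟩, ?_⟩
  · rw [hym, ZMod.val_zero, Nat.cast_zero, hY0]
  · rw [← hz, pow_two]
    nth_rewrite 1 [← hzi]
    exact inv_mul_cancel z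
  · show t * z = z * t
    have := htzc 1
    rw [zpow_one] at this
    exact mul_inv_eq_iff_eq_mul.1 this
  · rw [hym, hYcube]
  · set d := (j - i).val with hd
    have hd0 : 0 < d := Nat.pos_of_ne_zero fun h0 => hij (sub_eq_zero.1 ((ZMod.val_eq_zero _).1 h0)).symm
    have hdm : d < m := ZMod.val_lt _
    rcases Nat.lt_or_ge d p with hlt | hge
    · have h2 := (hclose (i.val : ℤ) d hd0 hlt).1
      rwa [← hym, ← hymc, show ((((i.val : ℤ) + (d : ℤ)) : ℤ) : ZMod m) = j by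
        push_cast; rw [hd, ZMod.natCast_zmod_val, ZMod.natCast_zmod_val, add_sub_cancel]] at h2
    · have h2 := (hclose (j.val : ℤ) (m - d) (by omega) (by omega)).2
      rwa [← hym, ← hymc, show ((((j.val : ℤ) + ((m - d : ℕ) : ℤ)) : ℤ) : ZMod m) = i by
        push_cast [Nat.cast_sub hdm.le]
        rw [hd, ZMod.natCast_zmod_val, ZMod.natCast_zmod_val, ZMod.natCast_self]; ring] at h2
  · rw [hym, hY1, ← hymc]
    congr 2
    push_cast
    rw [ZMod.natCast_zmod_val]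
  · show a * z = z * a
    exact mul_inv_eq_iff_eq_mul.1 haz

end derive

end Cfsg.Agent.Lib.ShortPres
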