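import Mathlib
import Cfsg.Agent.Lib.BoundedPresentation.AltPres
import Cfsg.Agent.Lib.ShortPres.Derive

/-!
Seven relators and the extra relators of an instance give a presentation.
-/

set_option autoImplicit false
set_option linter.style.haveILetI false

namespace Cfsg.Agent.Lib.ShortPres

open Subgroup
open Cfsg.Agent.Lib.BoundedPresentation

/-- A homomorphism out of a group from an order bound on a subgroup of the product. -/
theorem exists_hom_of_card {κ : Type} {H G : Type} [Group H] [Group G] {s : κ → H}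
    (hs : closure (Set.range s) = ⊤) (y : κ → G)
    (hfin : (closure (Set.range fun k => (s k, y k)) : Set (H × G)).Finite)
    (hcard : Nat.card (closure (Set.range fun k => (s k, y k))) ≤ Nat.card H) :
    ∃ ψ : H →* G, ∀ k, ψ (s k) = y k := by
  set D := closure (Set.range fun k => (s k, y k)) with hD
  haveI : Finite D := hfin.to_subtype
  let π : D →* H := (MonoidHom.fst H G).comp D.subtype
  have hsurj : Function.Surjective π := by
    rw [← MonoidHom.range_eq_top, eq_top_iff, ← hs, closure_le]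
    rintro _ ⟨k, rfl⟩
    exact ⟨⟨(s k, y k), subset_closure ⟨k, rfl⟩⟩, rfl⟩
  let E := MulEquiv.ofBijective π (Function.Surjective.bijective_of_nat_card_le hsurj hcard)
  refine ⟨((MonoidHom.snd H G).comp D.subtype).comp E.symm.toMonoidHom, fun k => ?_⟩
  have : E.symm (s k) = ⟨(s k, y k), subset_closure ⟨k, rfl⟩⟩ := E.symm_apply_eq.2 rfl
  simp only [MonoidHom.comp_apply, MulEquiv.coe_toMonoidHom, this]
  rfl

variable {m : ℕ} {f : ℤˣ}

theorem yv_prod {G₁ G₂ : Type*} [Group G₁] [Group G₂] (x₁ t₁ : G₁) (x₂ t₂ : G₂) (i : ZMod m) :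
    yv f ((x₁, x₂) : G₁ × G₂) ((t₁, t₂) : G₁ × G₂) i = (yv f x₁ t₁ i, yv f x₂ t₂ i) :=
  Prod.ext (map_yv (MonoidHom.fst G₁ G₂) f _ _ i) (map_yv (MonoidHom.snd G₁ G₂) f _ _ i)

theorem Rules.prod {G₁ G₂ : Type*} [Group G₁] [Group G₂] {x₁ t₁ : G₁} {x₂ t₂ : G₂}
    (h₁ : Rules m f x₁ t₁) (h₂ : Rules m f x₂ t₂) :
    Rules m f ((x₁, x₂) : G₁ × G₂) ((t₁, t₂) : G₁ × G₂) where
  base := by rw [yv_prod, h₁.base, h₂.base]
  sq := Prod.ext h₁.sq h₂.sq
  comm := Prod.ext h₁.comm h₂.comm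
  cube i := by rw [yv_prod]; exact Prod.ext (h₁.cube i) (h₂.cube i)
  pair i j hij := by rw [yv_prod, yv_prod]; exact Prod.ext (h₁.pair i j hij) (h₂.pair i j hij)
  shift i := by rw [yv_prod, yv_prod]; exact Prod.ext (h₁.shift i) (h₂.shift i)

section bound

variable [NeZero m] {G : Type} [Group G] {x t : G}

theorem Rules.bound (h : Rules m f x t) :
    (closure (Set.range (yv (m := m) f x t)) : Set G).Finite ∧
      Nat.card (closure (Set.range (yv (m := m) f x t))) ≤ 2 * Nat.card (Alt2 (ZMod m)) ∧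
      (x ^ 3 = 1 → Nat.card (closure (Set.range (yv (m := m) f x t))) ≤ Nat.card (Alt2 (ZMod m))) := by
  set M := closure (Set.range (yv (m := m) f x t)) with hM
  have hxM : x ∈ M := h.base ▸ subset_closure ⟨0, rfl⟩
  let z : M := ⟨x ^ 3, pow_mem hxM 3⟩
  have hzc : z ∈ center M := by
    rw [mem_center_iff]
    rintro ⟨g, hg⟩
    apply Subtype.ext
    have : g ∈ centralizer ({x ^ 3} : Set G) := by
      refine (closure_le _).2 ?_ hg
      rintro _ ⟨i, rfl⟩
      rw [SetLike.mem_coe, mem_centralizer_singleton_iff, ← h.cube i]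
      exact ((Commute.refl _).pow_right 3).eq
    exact mem_centralizer_singleton_iff.1 this
  set N : Subgroup M := zpowers z with hN
  have hNc : N ≤ center M := zpowers_le.2 hzc
  haveI : N.Normal := ⟨fun n hn g => by
    rw [(mem_center_iff.1 (hNc hn) g), mul_inv_cancel_right]; exact hn⟩
  let q : M →* M ⧸ N := QuotientGroup.mk' N
  have hq : ∀ w : M, (w : G) = x ^ 3 → q w = 1 := fun w hw => by
    rw [show w = z from Subtype.ext hw]
    exact (QuotientGroup.eq_one_iff z).2 (mem_zpowers z)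
  let y : ZMod m → M := fun i => ⟨yv f x t i, subset_closure ⟨i, rfl⟩⟩
  obtain ⟨ψ, hψ⟩ := exists_hom (fun i => q (y i))
    ⟨fun i => by rw [← map_pow]; exact hq _ (h.cube i),
     fun i j hij => by rw [← map_mul, ← map_pow]; exact hq _ (h.pair i j hij)⟩
  have hsurj : Function.Surjective ψ := by
    intro w
    obtain ⟨⟨g, hg⟩, rfl⟩ := QuotientGroup.mk'_surjective N w
    induction hg using Subgroup.closure_induction with
    | mem g hg =>
      obtain ⟨i, rfl⟩ := hg
      exact ⟨cyc i, hψ i⟩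
    | one => exact ⟨1, (map_one ψ).trans (map_one q).symm⟩
    | mul a b ha hb iha ihb =>
      obtain ⟨u, hu⟩ := iha
      obtain ⟨v, hv⟩ := ihb
      exact ⟨u * v, by rw [map_mul, hu, hv, ← map_mul]; rfl⟩
    | inv a ha iha =>
      obtain ⟨u, hu⟩ := iha
      exact ⟨u⁻¹, by rw [map_inv, hu, ← map_inv]; rfl⟩
  haveI : Finite (M ⧸ N) := Finite.of_surjective ψ hsurj
  have hz2 : z ^ 2 = 1 := Subtype.ext h.sq
  have hN2 : Nat.card N ≤ 2 := by
    rw [hN, Nat.card_zpowers]; exact orderOf_le_of_pow_eq_one two_pos hz2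
  have hNpos : 0 < Nat.card N := by
    rw [hN, Nat.card_zpowers]
    exact (isOfFinOrder_iff_pow_eq_one.2 ⟨2, two_pos, hz2⟩).orderOf_pos
  have hQ : Nat.card (M ⧸ N) ≤ Nat.card (Alt2 (ZMod m)) := Nat.card_le_card_of_surjective ψ hsurj
  have hcard : Nat.card M = Nat.card (M ⧸ N) * Nat.card N := card_eq_card_quotient_mul_card_subgroup N
  have hpos : 0 < Nat.card M := by rw [hcard]; exact Nat.mul_pos Nat.card_pos hNpos
  haveI : Finite M := Nat.finite_of_card_ne_zero hpos.ne'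
  refine ⟨Set.toFinite _, ?_, fun h1 => ?_⟩
  · rw [hcard, mul_comm 2]; exact Nat.mul_le_mul hQ hN2
  · have : Nat.card N = 1 := by
      rw [hN, Nat.card_zpowers, orderOf_eq_one_iff]; exact Subtype.ext h1
    rw [hcard, this, mul_one]; exact hQ

/-- Cosets of the family under the powers of `t` cover a finite group. -/
theorem Rules.cover_bound (h : Rules m f x t) {e : ℕ} (K : Subgroup G)
    (hK : ∀ g ∈ K, ∃ r < e, ∃ w ∈ closure (Set.range (yv (m := m) f x t)), g = t ^ r * w) :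
    (K : Set G).Finite ∧ Nat.card K ≤ e * (2 * Nat.card (Alt2 (ZMod m))) ∧
      (x ^ 3 = 1 → Nat.card K ≤ e * Nat.card (Alt2 (ZMod m))) := by
  obtain ⟨hfin, h2, h1⟩ := h.bound
  set M := closure (Set.range (yv (m := m) f x t))
  haveI : Finite M := hfin.to_subtype
  let F : Fin e × M → G := fun rw' => t ^ (rw'.1 : ℕ) * rw'.2
  have hsub : (K : Set G) ⊆ Set.range F := fun g hg => by
    obtain ⟨r, hr, w, hw, rfl⟩ := hK g hg
    exact ⟨(⟨r, hr⟩, ⟨w, hw⟩), rfl⟩
  have hle : Nat.card K ≤ e * Nat.card M :=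
    (Nat.card_mono (Set.finite_range F) hsub).trans ((Finite.card_range_le F).trans (by simp))
  exact ⟨(Set.finite_range F).subset hsub, hle.trans (Nat.mul_le_mul_left _ h2),
    fun hx => hle.trans (Nat.mul_le_mul_left _ (h1 hx))⟩

end bound

/-- The seven relators. -/
def relList {G : Type*} [Group G] (p n m : ℕ) (f : ℤˣ) (x t a b : G) : List G :=
  [a ^ p, b * a * b⁻¹ * (a ^ n)⁻¹, b * x * b⁻¹ * x, (x * (a * x * a⁻¹)) ^ 2 * (x ^ 3)⁻¹,
    a⁻¹ * t * b * (b * (a⁻¹ * t))⁻¹,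
    a⁻¹ * t * (a * x * a⁻¹) * (a⁻¹ * t)⁻¹ * ((a * x * a⁻¹) ^ (f : ℤ))⁻¹,
    t ^ m * x * (t ^ m)⁻¹ * (x ^ ((f ^ m : ℤˣ) : ℤ))⁻¹]

theorem map_relList {G H : Type*} [Group G] [Group H] (F : G →* H) (p n m : ℕ) (f : ℤˣ) (x t a b : G) :
    (relList p n m f x t a b).map F = relList p n m f (F x) (F t) (F a) (F b) := by
  simp only [relList, List.map_cons, List.map_nil, map_mul, map_inv, map_pow, map_zpow]

theorem seven_iff {G : Type*} [Group G] (p n m : ℕ) (f : ℤˣ) (x t a b : G) :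
    (∀ r ∈ relList p n m f x t a b, r = 1) ↔ Seven p n m f x t a b := by
  simp only [relList, List.forall_mem_cons, mul_eq_one_iff_eq_inv, inv_inv]
  constructor
  · rintro ⟨h1, h2, h3, h4, h5, h6, h7, -⟩
    exact ⟨h1, h2, h3, h4, h5, h6, h7⟩
  · rintro ⟨h1, h2, h3, h4, h5, h6, h7⟩
    exact ⟨h1, h2, h3, h4, h5, h6, h7, by simp⟩

/-- Seven relators and `Q` present `H` on the family `s`. -/
theorem pres_of_seven {p n : ℕ} [Fact p.Prime] [NeZero m] (hgen : ∀ i : ZMod p, i ≠ 0 → ∃ k : ℕ, i = (n : ZMod p) ^ k)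
    (hpm : p ≤ m) (hmp : m + 1 ≤ 2 * p) (hp2 : p ≠ 2)
    {H : Type} [Group H] [Finite H] {κ : Type} {s : κ → H} (hs : closure (Set.range s) = ⊤)
    {X T A B : H} (hH : Seven p n m f X T A B) (hX : X ^ 3 = 1) (hB : B ∈ closure (Set.range (yv (m := m) f X T)))
    (UX UT : FreeGroup κ) (hUX : FreeGroup.lift s UX = X) (hUT : FreeGroup.lift s UT = T)
    (Q : Finset (FreeGroup κ)) {e : ℕ} (he : e * Nat.card (Alt2 (ZMod m)) = Nat.card H)
    (hQH : ∀ q ∈ Q, FreeGroup.lift s q = 1)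
    (hQ : ∀ (G : Type) [Group G] (y : κ → G), Rules m f (FreeGroup.lift y UX) (FreeGroup.lift y UT) →
      (∀ q ∈ Q, FreeGroup.lift y q = 1) → ∀ g ∈ closure (Set.range y), ∃ r < e,
        ∃ w ∈ closure (Set.range (yv (m := m) f (FreeGroup.lift y UX) (FreeGroup.lift y UT))),
          g = FreeGroup.lift y UT ^ r * w) :
    Pres s (7 + Q.card) := by
  classical
  obtain ⟨va, hva⟩ := exists_word hs A
  obtain ⟨vb, hvb⟩ : ∃ v : FreeGroup (ZMod m), FreeGroup.lift (yv f X T) v = B := by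
    rw [← FreeGroup.range_lift_eq_closure] at hB; exact hB
  let Ub : FreeGroup κ := FreeGroup.lift (yv f UX UT) vb
  have hUb : ∀ {G : Type} [Group G] (y : κ → G), FreeGroup.lift y Ub =
      FreeGroup.lift (yv (m := m) f (FreeGroup.lift y UX) (FreeGroup.lift y UT)) vb := fun y => by
    rw [lift_lift]
    exact congrArg (fun F => FreeGroup.lift F vb) (funext fun i => map_yv _ _ _ _ i)
  let Ua : ℕ → FreeGroup κ := fun δ => va * UX ^ (3 * δ)
  let R : ℕ → Finset (FreeGroup κ) := fun δ => (relList p n m f UX UT (Ua δ) Ub).toFinset ∪ Q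
  have hRcard : ∀ δ, (R δ).card ≤ 7 + Q.card := fun δ =>
    (Finset.card_union_le _ _).trans (Nat.add_le_add_right ((List.toFinset_card_le _).trans (le_of_eq rfl)) _)
  have hRiff : ∀ {G : Type} [Group G] (y : κ → G) (δ : ℕ), (∀ r ∈ R δ, FreeGroup.lift y r = 1) ↔
      Seven p n m f (FreeGroup.lift y UX) (FreeGroup.lift y UT) (FreeGroup.lift y (Ua δ)) (FreeGroup.lift y Ub) ∧
        ∀ q ∈ Q, FreeGroup.lift y q = 1 := by
    intro G _ y δ
    rw [← seven_iff, ← map_relList]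
    simp only [R, Finset.forall_mem_union, List.mem_toFinset, List.forall_mem_map]
  have hRH : ∀ δ, ∀ r ∈ R δ, FreeGroup.lift s r = 1 := fun δ => by
    rw [hRiff]
    refine ⟨?_, hQH⟩
    rw [hUb, hUX, hUT, hvb, map_mul, map_pow, hva, hUX, pow_mul, hX, one_pow, mul_one]
    exact hH
  have hrules : ∀ {G : Type} [Group G] (y : κ → G) (δ : ℕ), (∀ r ∈ R δ, FreeGroup.lift y r = 1) →
      Rules m f (FreeGroup.lift y UX) (FreeGroup.lift y UT) ∧
        Commute (FreeGroup.lift y (Ua δ)) (FreeGroup.lift y UX ^ 3) := by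
    intro G _ y δ hy
    refine derive ((hRiff y δ).1 hy).1 hgen hpm hmp ?_
    rw [hUb, ← FreeGroup.range_lift_eq_closure]
    exact ⟨vb, rfl⟩
  have hruleH : Rules m f X T := by
    have := (hrules s 0 (hRH 0)).1
    rwa [hUX, hUT] at this
  have hpair : ∀ {G₁ G₂ : Type} [Group G₁] [Group G₂] (y₁ : κ → G₁) (y₂ : κ → G₂) (u : FreeGroup κ),
      FreeGroup.lift (fun k => (y₁ k, y₂ k)) u = (FreeGroup.lift y₁ u, FreeGroup.lift y₂ u) := by
    intro G₁ G₂ _ _ y₁ y₂ u
    exact Prod.ext (map_lift (MonoidHom.fst G₁ G₂) _ u) (map_lift (MonoidHom.snd G₁ G₂) _ u)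
  -- a homomorphism once the cube of `x` is trivial
  have huniv : ∀ (G : Type) [Group G] (y : κ → G), Rules m f (FreeGroup.lift y UX) (FreeGroup.lift y UT) →
      (∀ q ∈ Q, FreeGroup.lift y q = 1) → FreeGroup.lift y UX ^ 3 = 1 → ∃ ψ : H →* G, ∀ k, ψ (s k) = y k := by
    intro G _ y hr hq hx
    have hr' : Rules m f (FreeGroup.lift (fun k => (s k, y k)) UX) (FreeGroup.lift (fun k => (s k, y k)) UT) := by
      rw [hpair, hpair, hUX, hUT]; exact hruleH.prod hr
    have hq' : ∀ q ∈ Q, FreeGroup.lift (fun k => (s k, y k)) q = 1 := fun q hqQ => by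
      rw [hpair, hQH q hqQ, hq q hqQ]; rfl
    obtain ⟨hfin, -, hc⟩ := hr'.cover_bound _ (hQ _ _ hr' hq')
    refine exists_hom_of_card hs y hfin ((hc ?_).trans_eq he)
    rw [hpair, hUX]
    exact Prod.ext hX hx
  let y₀ : κ → PresentedGroup (↑(R 0) : Set (FreeGroup κ)) := PresentedGroup.of
  have hy₀ : ∀ r ∈ R 0, FreeGroup.lift y₀ r = 1 := by
    intro r hr
    have : FreeGroup.lift y₀ = PresentedGroup.mk (↑(R 0) : Set (FreeGroup κ)) :=
      FreeGroup.ext_hom _ _ fun k => by rw [FreeGroup.lift_apply_of]; rfl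
    rw [this]; exact PresentedGroup.one_of_mem (Finset.mem_coe.2 hr)
  by_cases hz₀ : FreeGroup.lift y₀ UX ^ 3 = 1
  · refine ⟨R 0, hRcard 0, hRH 0, fun G _ y hy => huniv G y (hrules y 0 hy).1 ((hRiff y 0).1 hy).2 ?_⟩
    let η := PresentedGroup.toGroup (f := y) (fun r hr => hy r (Finset.mem_coe.1 hr))
    have := congrArg η hz₀
    rw [map_pow, map_one, map_lift] at this
    simpa only [η, y₀, PresentedGroup.toGroup.of] using this
  refine ⟨R 1, hRcard 1, hRH 1, fun G _ y hy => ?_⟩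
  obtain ⟨hr, hac⟩ := hrules y 1 hy
  refine huniv G y hr ((hRiff y 1).1 hy).2 ?_
  obtain ⟨hr₀, hac₀⟩ := hrules y₀ 0 hy₀
  -- the group of the plain relators is twice as large as `H`
  let π : PresentedGroup (↑(R 0) : Set (FreeGroup κ)) →* H :=
    PresentedGroup.toGroup (f := s) (fun r hr => hRH 0 r (Finset.mem_coe.1 hr))
  have hπs : ∀ k, π (y₀ k) = s k := fun k => PresentedGroup.toGroup.of _
  have hy₀top : closure (Set.range y₀) = ⊤ := PresentedGroup.closure_range_of _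
  obtain ⟨hfin₀, -, -⟩ := hr₀.cover_bound _ (hQ _ y₀ hr₀ ((hRiff y₀ 0).1 hy₀).2)
  haveI : Finite (PresentedGroup (↑(R 0) : Set (FreeGroup κ))) := by
    rw [hy₀top] at hfin₀; exact Set.finite_univ_iff.1 (by simpa using hfin₀)
  have hπsurj : Function.Surjective π := by
    rw [← MonoidHom.range_eq_top, eq_top_iff, ← hs, closure_le]
    rintro _ ⟨k, rfl⟩
    exact ⟨y₀ k, hπs k⟩
  have hbig : 2 * Nat.card H ≤ Nat.card (PresentedGroup (↑(R 0) : Set (FreeGroup κ))) := by
    have hker : FreeGroup.lift y₀ UX ^ 3 ∈ π.ker := by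
      rw [MonoidHom.mem_ker, map_pow, map_lift]
      simp only [hπs, hUX, hX]
    haveI : Nontrivial π.ker := ⟨⟨⟨_, hker⟩, 1, fun h => hz₀ (congrArg Subtype.val h)⟩⟩
    rw [card_eq_card_quotient_mul_card_subgroup π.ker,
      Nat.card_congr (QuotientGroup.quotientKerEquivOfSurjective π hπsurj).toEquiv, mul_comm 2]
    exact Nat.mul_le_mul_left _ Finite.one_lt_card
  have hr' : Rules m f (FreeGroup.lift (fun k => (y₀ k, y k)) UX) (FreeGroup.lift (fun k => (y₀ k, y k)) UT) := by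
    rw [hpair, hpair]; exact hr₀.prod hr
  have hq' : ∀ q ∈ Q, FreeGroup.lift (fun k => (y₀ k, y k)) q = 1 := fun q hqQ => by
    rw [hpair, ((hRiff y₀ 0).1 hy₀).2 q hqQ, ((hRiff y 1).1 hy).2 q hqQ]; rfl
  obtain ⟨hfin', hle', -⟩ := hr'.cover_bound _ (hQ _ _ hr' hq')
  obtain ⟨η, hη⟩ := exists_hom_of_card hy₀top y hfin'
    (hle'.trans ((le_of_eq (by rw [← he]; ring)).trans hbig))
  -- both versions of `a` have order dividing `p`
  have ha : FreeGroup.lift y va ^ p = 1 := by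
    have h0 := congrArg η ((hRiff y₀ 0).1 hy₀).1.r1
    rw [map_pow, map_one, map_lift] at h0
    simpa [hη, Ua] using h0
  have ha1 := ((hRiff y 1).1 hy).1.r1
  set z := FreeGroup.lift y UX ^ 3 with hz
  have hU : FreeGroup.lift y (Ua 1) = FreeGroup.lift y va * z := by
    simp only [Ua, map_mul, map_pow, mul_one, hz]
  rw [hU] at ha1 hac
  have hc : Commute (FreeGroup.lift y va) z := by
    have := hac.mul_left ((Commute.refl z).inv_left)
    rwa [mul_inv_cancel_right] at this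
  rw [hc.mul_pow, ha, one_mul] at ha1
  obtain ⟨k, hk⟩ := (Fact.out : p.Prime).odd_of_ne_two hp2
  rw [hk, pow_add, pow_mul, hr.sq, one_pow, one_mul, pow_one] at ha1
  exact ha1

end Cfsg.Agent.Lib.ShortPres
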