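import Mathlib
import Cfsg.Agent.Lib.ShortPres.Main

/-!
The seven relations hold in alternating and symmetric groups.
-/

set_option autoImplicit false
set_option linter.style.haveILetI false
set_option linter.unusedSectionVars false

namespace Cfsg.Agent.Lib.ShortPres

open Equiv Equiv.Perm
open Cfsg.Agent.Lib.BoundedPresentation

theorem exists_prime_between {m : ℕ} (hm : 3 ≤ m) : ∃ p, p.Prime ∧ p ≤ m ∧ m + 1 ≤ 2 * p ∧ p ≠ 2 := by
  rcases Nat.lt_or_ge m 4 with h | h
  · exact ⟨3, Nat.prime_three, by omega, by omega, by omega⟩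
  obtain ⟨p, hp, h1, h2⟩ := Nat.exists_prime_lt_and_le_two_mul (m / 2) (by omega)
  exact ⟨p, hp, by omega, by omega, by omega⟩

theorem exists_multiplier (p : ℕ) [Fact p.Prime] (hp2 : p ≠ 2) : ∃ n : ℕ,
    (∀ i : ZMod p, i ≠ 0 → ∃ k : ℕ, i = (n : ZMod p) ^ k) ∧
      ∃ μ : Perm (ZMod p), (∀ i, μ i = (n : ZMod p) * i) ∧ sign μ = -1 := by
  classical
  have hp : p.Prime := Fact.out
  have h3 : 3 ≤ p := by have := hp.two_le; omega
  obtain ⟨g, hg⟩ := IsCyclic.exists_monoid_generator (α := (ZMod p)ˣ)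
  refine ⟨(g : ZMod p).val, fun i hi => ?_, Units.mulLeft g, fun i => ?_, ?_⟩
  · obtain ⟨k, hk⟩ := (Submonoid.mem_powers_iff _ _).1 (hg (Units.mk0 i hi))
    exact ⟨k, by rw [ZMod.natCast_zmod_val, ← Units.val_pow_eq_pow_val, hk, Units.val_mk0]⟩
  · rw [ZMod.natCast_zmod_val]; rfl
  have hpow : ∀ (k : ℕ) (i : ZMod p), ((Units.mulLeft g : Perm (ZMod p)) ^ k) i = ((g : ZMod p)) ^ k * i := by
    intro k
    induction k with
    | zero => intro i; simp
    | succ k ih =>
      intro i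
      rw [pow_succ', Perm.mul_apply, ih, pow_succ', mul_assoc]
      rfl
  have hg1 : (g : ZMod p) ≠ 1 := by
    intro h
    have h2 : ((2 : ℕ) : ZMod p) ≠ 0 := by
      rw [ne_eq, ZMod.natCast_eq_zero_iff]
      exact fun hd => absurd (Nat.le_of_dvd (by omega) hd) (by omega)
    obtain ⟨k, hk⟩ := (Submonoid.mem_powers_iff _ _).1 (hg (Units.mk0 _ h2))
    have := congrArg Units.val hk
    rw [Units.val_pow_eq_pow_val, h, one_pow, Units.val_mk0] at this
    have h1 : ((1 : ℕ) : ZMod p) = ((2 : ℕ) : ZMod p) := by rw [Nat.cast_one]; exact this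
    have := congrArg ZMod.val h1
    rw [ZMod.val_natCast_of_lt (by omega), ZMod.val_natCast_of_lt (by omega)] at this
    omega
  have hsupp : (Units.mulLeft g : Perm (ZMod p)).support = Finset.univ.erase 0 := by
    ext i
    simp only [Perm.mem_support, Finset.mem_erase, Finset.mem_univ, and_true]
    constructor
    · rintro h rfl; exact h (mul_zero _)
    · intro hi h
      exact hg1 (mul_right_cancel₀ hi (h.trans (one_mul i).symm))
  have hcyc : (Units.mulLeft g : Perm (ZMod p)).IsCycle := by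
    refine ⟨1, ?_, fun y hy => ?_⟩
    · show (g : ZMod p) * 1 ≠ 1
      rwa [mul_one]
    · have hy0 : y ≠ 0 := fun h => hy (by subst h; exact mul_zero _)
      obtain ⟨k, hk⟩ := (Submonoid.mem_powers_iff _ _).1 (hg (Units.mk0 y hy0))
      refine ⟨(k : ℤ), ?_⟩
      rw [zpow_natCast, hpow, mul_one, ← Units.val_pow_eq_pow_val, hk, Units.val_mk0]
  rw [hcyc.sign, hsupp, Finset.card_erase_of_mem (Finset.mem_univ _), Finset.card_univ, ZMod.card]
  obtain ⟨c, hc⟩ := hp.odd_of_ne_two hp2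
  rw [show p - 1 = 2 * c by omega, pow_mul, neg_one_sq, one_pow]

section points

variable {p m : ℕ} [Fact p.Prime] [NeZero m]

/-- The embedding of `ZMod p` as the last `p` residues modulo `m`. -/
def pt (m : ℕ) {p : ℕ} (i : ZMod p) : ZMod m := -(((-i).val : ℕ) : ZMod m)

theorem pt_injective (hpm : p ≤ m) : Function.Injective (pt m : ZMod p → ZMod m) := by
  intro i j h
  simp only [pt, neg_inj] at h
  have hi := ZMod.val_lt (-i)
  have hj := ZMod.val_lt (-j)
  have := congrArg ZMod.val h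
  rw [ZMod.val_natCast_of_lt (by omega), ZMod.val_natCast_of_lt (by omega)] at this
  exact neg_injective (ZMod.val_injective p this)

theorem pt_zero : (pt m (0 : ZMod p)) = 0 := by simp [pt]

theorem pt_succ {i : ZMod p} (hi : i ≠ 0) : pt m (i + 1) = pt m i + 1 := by
  have hp : p.Prime := Fact.out
  haveI : Fact (1 < p) := ⟨hp.one_lt⟩
  set j : ZMod p := -(i + 1) with hj
  have hij : -i = j + 1 := by rw [hj]; ring
  have hlt : j.val + 1 < p := by
    rcases Nat.lt_or_ge (j.val + 1) p with h | h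
    · exact h
    · exfalso
      have hv := ZMod.val_lt j
      refine neg_ne_zero.2 hi ?_
      rw [hij, ← ZMod.natCast_zmod_val j, ← Nat.cast_one, ← Nat.cast_add,
        show j.val + 1 = p by omega, ZMod.natCast_self]
  have hv : (-i).val = j.val + 1 := by
    rw [hij, ZMod.val_add, ZMod.val_one, Nat.mod_eq_of_lt hlt]
  show -(((-(i + 1)).val : ℕ) : ZMod m) = -(((-i).val : ℕ) : ZMod m) + 1
  rw [← hj, hv]; push_cast; ring

end points

section target

variable {m : ℕ} [NeZero m] {H : Type} [Group H] (ι : Alt2 (ZMod m) →* H) (T : H) (f : ℤˣ)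

theorem yv_target (hcyc : ∀ i, T * ι (cyc i) * T⁻¹ = ι (cyc (i + 1)) ^ (f : ℤ)) (i : ZMod m) :
    yv f (ι (cyc 0)) T i = ι (cyc i) := by
  have : ∀ k : ℕ, T ^ k * ι (cyc 0) * (T ^ k)⁻¹ = ι (cyc (k : ZMod m)) ^ ((f ^ k : ℤˣ) : ℤ) := by
    intro k
    induction k with
    | zero => simp
    | succ k ih =>
      rw [show T ^ (k + 1) * ι (cyc 0) * (T ^ (k + 1))⁻¹ = T * (T ^ k * ι (cyc 0) * (T ^ k)⁻¹) * T⁻¹ by
        rw [pow_succ']; group, ih, ← conj_zpow, hcyc, zpow_unit_unit, pow_succ, mul_comm f, Nat.cast_succ]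
  rw [yv, this, zpow_unit_unit, Int.units_mul_self, Units.val_one, zpow_one, ZMod.natCast_zmod_val]

theorem exists_seven (hm : 3 ≤ m) (hcyc : ∀ i, T * ι (cyc i) * T⁻¹ = ι (cyc (i + 1)) ^ (f : ℤ))
    (hlift : ∀ π : Perm (ZMod m), T * ι (evenLift π) * T⁻¹ =
      ι (evenLift (Equiv.addLeft (1 : ZMod m) * π * (Equiv.addLeft (1 : ZMod m))⁻¹))) :
    ∃ (p n : ℕ) (_ : Fact p.Prime), p ≤ m ∧ m + 1 ≤ 2 * p ∧ p ≠ 2 ∧
      (∀ i : ZMod p, i ≠ 0 → ∃ k : ℕ, i = (n : ZMod p) ^ k) ∧
      ∃ A B : H, Seven p n m f (ι (cyc 0)) T A B ∧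
        B ∈ Subgroup.closure (Set.range (yv (m := m) f (ι (cyc 0)) T)) := by
  classical
  obtain ⟨p, hp, hpm, hmp, hp2⟩ := exists_prime_between hm
  haveI := Fact.mk hp
  haveI : Fact (1 < p) := ⟨hp.one_lt⟩
  obtain ⟨n, hgen, μ, hμ, hμs⟩ := exists_multiplier p hp2
  let emb : ZMod p ↪ ZMod m := ⟨pt m, pt_injective hpm⟩
  let V : Perm (ZMod p) →* Perm (ZMod m) := Perm.viaEmbeddingHom emb
  let α₁ : Perm (ZMod p) := Equiv.addLeft 1
  have hα : ∀ (k : ℕ) (i : ZMod p), (α₁ ^ k) i = (k : ZMod p) + i := by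
    intro k
    induction k with
    | zero => intro i; simp
    | succ k ih =>
      intro i
      rw [pow_succ', Perm.mul_apply, ih]
      show 1 + ((k : ZMod p) + i) = _
      push_cast; ring
  have hαp : α₁ ^ p = 1 := Equiv.ext fun i => by rw [hα, ZMod.natCast_self, zero_add]; rfl
  have hαs : sign α₁ = 1 := by
    have h := congrArg sign hαp
    rw [map_pow, map_one] at h
    obtain ⟨c, hc⟩ := hp.odd_of_ne_two hp2
    have h' : sign α₁ ^ (2 * c + 1) = 1 := by rw [← hc]; exact h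
    rwa [pow_add, pow_mul, Int.units_sq, one_pow, one_mul, pow_one] at h'
  have hVs : ∀ π, sign (V π) = sign π := fun π => by
    classical
    rw [show V π = Perm.extendDomain π (Equiv.ofInjective emb.1 emb.2) from ?_]
    · exact sign_extendDomain π _
    · show Perm.viaEmbedding π emb = _
      unfold Perm.viaEmbedding
      convert rfl
  have hVapply : ∀ π i, V π (pt m i) = pt m (π i) := fun π i => Perm.viaEmbedding_apply π emb i
  have hVfix : ∀ π x, x ∉ Set.range (pt m : ZMod p → ZMod m) → V π x = x := fun π x hx =>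
    Perm.viaEmbedding_apply_of_notMem π emb x hx
  let ρa : Perm (ZMod m) := V α₁
  let ρb : Perm (ZMod m) := V μ
  have ha_conj : ∀ i : ZMod p, ι (evenLift ρa) * ι (cyc (pt m i)) * (ι (evenLift ρa))⁻¹ = ι (cyc (pt m (1 + i))) := by
    intro i
    rw [← map_inv, ← map_mul, ← map_mul, evenLift_conj, hVs, hαs, hVapply, Units.val_one, zpow_one]
    rfl
  have hx1 : ι (evenLift ρa) * ι (cyc 0) * (ι (evenLift ρa))⁻¹ = ι (cyc (pt m (1 : ZMod p))) := by
    rw [← pt_zero (p := p), ha_conj, add_zero]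
  refine ⟨p, n, ⟨hp⟩, hpm, hmp, hp2, hgen, ι (evenLift ρa), ι (evenLift ρb), ⟨?_, ?_, ?_, ?_, ?_, ?_, ?_⟩, ?_⟩
  · rw [← map_pow, ← map_pow, ← map_pow, hαp, map_one, map_one, map_one]
  · rw [← map_inv, ← map_mul, ← map_mul, ← map_inv, ← map_mul, ← map_mul, ← map_pow, ← map_pow]
    congr 2
    rw [← map_inv, ← map_mul, ← map_mul, ← map_pow]
    congr 1
    refine Equiv.ext fun i => ?_
    rw [hα, Perm.mul_apply, Perm.mul_apply, hμ]
    show (n : ZMod p) * (1 + μ⁻¹ i) = _
    rw [mul_add, mul_one, ← hμ]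
    simp
  · rw [← map_inv, ← map_mul, ← map_mul, evenLift_conj, hVs, hμs, ← pt_zero (p := p), hVapply, hμ, mul_zero,
      Units.val_neg, Units.val_one, zpow_neg, zpow_one, map_inv]
  · rw [hx1, ← map_mul, ← map_pow, ← map_pow, carm_cyc.pair _ _ ?_, carm_cyc.cube]
    rw [← pt_zero (p := p)]
    exact fun h => zero_ne_one (pt_injective hpm h)
  · have hdisj : Perm.Disjoint (ρa⁻¹ * Equiv.addLeft (1 : ZMod m)) ρb := by
      intro x
      by_cases hx : x ∈ Set.range (pt m : ZMod p → ZMod m)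
      · obtain ⟨i, rfl⟩ := hx
        rcases eq_or_ne i 0 with rfl | hi
        · exact Or.inr (by rw [hVapply, hμ, mul_zero])
        · refine Or.inl ?_
          rw [Perm.mul_apply, Perm.inv_eq_iff_eq]
          show 1 + pt m i = V α₁ (pt m i)
          rw [hVapply]
          show 1 + pt m i = pt m (1 + i)
          rw [add_comm (1 : ZMod p), pt_succ hi, add_comm]
      · exact Or.inr (hVfix _ _ hx)
    have hcomm := hdisj.commute.eq
    have hσ : Equiv.addLeft (1 : ZMod m) * ρb * (Equiv.addLeft (1 : ZMod m))⁻¹ = ρa * ρb * ρa⁻¹ := by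
      rw [mul_inv_eq_iff_eq_mul]
      calc Equiv.addLeft (1 : ZMod m) * ρb = ρa * (ρa⁻¹ * Equiv.addLeft (1 : ZMod m) * ρb) := by group
        _ = ρa * (ρb * (ρa⁻¹ * Equiv.addLeft (1 : ZMod m))) := by rw [hcomm]
        _ = _ := by group
    have hB := hlift ρb
    rw [hσ, map_mul, map_mul, map_mul, map_mul, map_inv, map_inv, mul_inv_eq_iff_eq_mul] at hB
    rw [mul_assoc _ T, hB]
    group
  · rw [hx1, show (ι (evenLift ρa))⁻¹ * T * ι (cyc (pt m (1 : ZMod p))) * ((ι (evenLift ρa))⁻¹ * T)⁻¹ =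
      (ι (evenLift ρa))⁻¹ * (T * ι (cyc (pt m (1 : ZMod p))) * T⁻¹) * ι (evenLift ρa) by group, hcyc,
      ← pt_succ one_ne_zero, ← ha_conj (1 : ZMod p), conj_zpow]
    group
  · have h := yv_target ι T f hcyc
    have hk : ∀ k : ℕ, T ^ k * ι (cyc 0) * (T ^ k)⁻¹ = ι (cyc (k : ZMod m)) ^ ((f ^ k : ℤˣ) : ℤ) := by
      intro k
      induction k with
      | zero => simp
      | succ k ih =>
        rw [show T ^ (k + 1) * ι (cyc 0) * (T ^ (k + 1))⁻¹ = T * (T ^ k * ι (cyc 0) * (T ^ k)⁻¹) * T⁻¹ by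
          rw [pow_succ']; group, ih, ← conj_zpow, hcyc, zpow_unit_unit, pow_succ, mul_comm f, Nat.cast_succ]
    rw [hk, ZMod.natCast_self]
  · rw [show Set.range (yv (m := m) f (ι (cyc 0)) T) = ι '' Set.range cyc by
      rw [← Set.range_comp]; exact congrArg Set.range (funext (yv_target ι T f hcyc)), ← MonoidHom.map_closure,
      closure_cyc]
    exact ⟨_, Subgroup.mem_top _, rfl⟩

/-- A presentation with seven relators besides those of the instance. -/
theorem pres_target [Finite H] (hm : 3 ≤ m)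
    (hcyc : ∀ i, T * ι (cyc i) * T⁻¹ = ι (cyc (i + 1)) ^ (f : ℤ))
    (hlift : ∀ π : Perm (ZMod m), T * ι (evenLift π) * T⁻¹ =
      ι (evenLift (Equiv.addLeft (1 : ZMod m) * π * (Equiv.addLeft (1 : ZMod m))⁻¹)))
    {κ : Type} {s : κ → H} (hs : Subgroup.closure (Set.range s) = ⊤)
    (UX UT : FreeGroup κ) (hUX : FreeGroup.lift s UX = ι (cyc 0)) (hUT : FreeGroup.lift s UT = T)
    (Q : Finset (FreeGroup κ)) {e : ℕ} (he : e * Nat.card (Alt2 (ZMod m)) = Nat.card H)
    (hQH : ∀ q ∈ Q, FreeGroup.lift s q = 1)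
    (hQ : ∀ (G : Type) [Group G] (y : κ → G), Rules m f (FreeGroup.lift y UX) (FreeGroup.lift y UT) →
      (∀ q ∈ Q, FreeGroup.lift y q = 1) → ∀ g ∈ Subgroup.closure (Set.range y), ∃ r < e,
        ∃ w ∈ Subgroup.closure (Set.range (yv (m := m) f (FreeGroup.lift y UX) (FreeGroup.lift y UT))),
          g = FreeGroup.lift y UT ^ r * w) :
    Pres s (7 + Q.card) := by
  obtain ⟨p, n, hp, hpm, hmp, hp2, hgen, A, B, hseven, hB⟩ := exists_seven ι T f hm hcyc hlift
  have hX : ι (cyc 0) ^ 3 = 1 := by rw [← map_pow, carm_cyc.cube, map_one]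
  exact pres_of_seven hgen hpm hmp hp2 hs hseven hX hB UX UT hUX hUT Q he hQH hQ

end target

end Cfsg.Agent.Lib.ShortPres
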