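import Mathlib
import Cfsg.Agent.Lib.ShortPres.Target

/-!
Short presentations of alternating and symmetric groups on chosen and on arbitrary pairs.
-/

set_option autoImplicit false
set_option linter.style.haveILetI false
set_option linter.unusedSectionVars false
open scoped Pointwise

namespace Cfsg.Agent.Lib.ShortPres

open Equiv Equiv.Perm Subgroup
open Cfsg.Agent.Lib.BoundedPresentation

/-- The isomorphism of a presented group taking the letters to the named elements. -/
theorem exists_iso_of_pres {ι : Type} {H : Type} [Group H] {N : ι → H} {r : ℕ} (h : Pres N r)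
    (hgen : closure (Set.range N) = ⊤) :
    ∃ R : Finset (FreeGroup ι), R.card ≤ r ∧
      ∃ e : PresentedGroup (↑R : Set (FreeGroup ι)) ≃* H, ∀ i, e (PresentedGroup.of i) = N i := by
  obtain ⟨R, hc, h1, h2⟩ := h
  refine ⟨R, hc, ?_⟩
  have hy : ∀ x ∈ R, FreeGroup.lift (PresentedGroup.of (rels := (↑R : Set (FreeGroup ι)))) x = 1 := by
    intro x hx
    have : FreeGroup.lift (PresentedGroup.of (rels := (↑R : Set (FreeGroup ι)))) =
        PresentedGroup.mk (↑R : Set (FreeGroup ι)) :=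
      FreeGroup.ext_hom _ _ fun a => by rw [FreeGroup.lift_apply_of]; rfl
    rw [this]; exact PresentedGroup.one_of_mem (Finset.mem_coe.2 hx)
  obtain ⟨ψ, hψ⟩ := h2 _ _ hy
  refine ⟨MonoidHom.toMulEquiv (PresentedGroup.toGroup (f := N) (fun x hx => h1 x (Finset.mem_coe.1 hx))) ψ ?_ ?_,
    fun i => by rw [MonoidHom.toMulEquiv_apply, PresentedGroup.toGroup.of]⟩
  · refine PresentedGroup.ext fun a => ?_
    rw [MonoidHom.comp_apply, PresentedGroup.toGroup.of, MonoidHom.id_apply, hψ]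
  · refine MonoidHom.eq_of_eqOn_dense hgen ?_
    rintro _ ⟨i, rfl⟩
    rw [MonoidHom.comp_apply, hψ, PresentedGroup.toGroup.of, MonoidHom.id_apply]

section cover

variable {m : ℕ} [NeZero m] {f : ℤˣ} {G : Type} [Group G] {x t : G}

theorem cover_one (h : Rules m f x t) {κ : Type} (y : κ → G)
    (hy : ∀ k, y k ∈ closure (Set.range (yv (m := m) f x t))) (g : G) (hg : g ∈ closure (Set.range y)) :
    ∃ r < 1, ∃ w ∈ closure (Set.range (yv (m := m) f x t)), g = t ^ r * w :=
  ⟨0, one_pos, g, (closure_le _).2 (by rintro _ ⟨k, rfl⟩; exact hy k) hg, by simp⟩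

theorem Rules.shift_mem_normalizer (h : Rules m f x t) :
    t ∈ normalizer (closure (Set.range (yv (m := m) f x t)) : Set G) := by
  set M := closure (Set.range (yv (m := m) f x t)) with hM
  have h1 : M ≤ M.comap (MulAut.conj t).toMonoidHom := by
    rw [hM, closure_le]
    rintro _ ⟨i, rfl⟩
    show t * yv f x t i * t⁻¹ ∈ M
    rw [h.shift]; exact Subgroup.zpow_mem M (subset_closure ⟨_, rfl⟩) _
  have h2 : M ≤ M.comap (MulAut.conj t⁻¹).toMonoidHom := by
    rw [hM, closure_le]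
    rintro _ ⟨i, rfl⟩
    show t⁻¹ * yv f x t i * t⁻¹⁻¹ ∈ M
    have e : yv f x t i = t * yv f x t (i - 1) ^ (f : ℤ) * t⁻¹ := by
      rw [← conj_zpow, h.shift, zpow_unit_unit, Int.units_mul_self, Units.val_one, zpow_one, sub_add_cancel]
    rw [e, show t⁻¹ * (t * yv f x t (i - 1) ^ (f : ℤ) * t⁻¹) * t⁻¹⁻¹ = yv f x t (i - 1) ^ (f : ℤ) by group]
    exact Subgroup.zpow_mem M (subset_closure ⟨_, rfl⟩) _
  rw [mem_normalizer_iff]
  intro g
  refine ⟨fun hg => h1 hg, fun hg => ?_⟩
  have := h2 hg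
  change t⁻¹ * (t * g * t⁻¹) * t⁻¹⁻¹ ∈ M at this
  rwa [show t⁻¹ * (t * g * t⁻¹) * t⁻¹⁻¹ = g by group] at this

theorem cover_two (h : Rules m f x t) (ht : t ^ 2 ∈ closure (Set.range (yv (m := m) f x t))) {κ : Type} (y : κ → G)
    (hy : ∀ k, y k ∈ zpowers t ⊔ closure (Set.range (yv (m := m) f x t))) (g : G)
    (hg : g ∈ closure (Set.range y)) :
    ∃ r < 2, ∃ w ∈ closure (Set.range (yv (m := m) f x t)), g = t ^ r * w := by
  set M := closure (Set.range (yv (m := m) f x t))
  have hg' : g ∈ zpowers t ⊔ M := (closure_le _).2 (by rintro _ ⟨k, rfl⟩; exact hy k) hg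
  have : g ∈ (zpowers t : Set G) * (M : Set G) := by
    rw [← coe_mul_of_left_le_normalizer_right _ M (zpowers_le.2 h.shift_mem_normalizer)]; exact hg'
  obtain ⟨_, ⟨k, rfl⟩, w, hw, rfl⟩ := Set.mem_mul.1 this
  rcases Int.even_or_odd k with ⟨c, rfl⟩ | ⟨c, rfl⟩
  · refine ⟨0, two_pos, (t ^ 2) ^ c * w, mul_mem (Subgroup.zpow_mem M ht _) hw, ?_⟩
    rw [pow_zero, one_mul, ← zpow_natCast t 2, ← zpow_mul]
    show t ^ (c + c) * w = t ^ (((2 : ℕ) : ℤ) * c) * w
    congr 2; push_cast; ring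
  · refine ⟨1, one_lt_two, (t ^ 2) ^ c * w, mul_mem (Subgroup.zpow_mem M ht _) hw, ?_⟩
    rw [pow_one, ← mul_assoc, ← zpow_natCast t 2, ← zpow_mul, ← zpow_one_add]
    show t ^ (2 * c + 1) * w = t ^ (1 + ((2 : ℕ) : ℤ) * c) * w
    congr 2; push_cast; ring

end cover

section words

variable {m : ℕ} [NeZero m] {f : ℤˣ} {κ : Type} (UX UT : FreeGroup κ)

/-- A word in the conjugates. -/
noncomputable def mWord (g : Alt2 (ZMod m)) : FreeGroup κ :=
  FreeGroup.lift (yv f UX UT) (exists_word closure_cyc g).choose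

theorem mWord_mem {G : Type} [Group G] (y : κ → G) (g : Alt2 (ZMod m)) :
    FreeGroup.lift y (mWord (f := f) UX UT g) ∈
      closure (Set.range (yv (m := m) f (FreeGroup.lift y UX) (FreeGroup.lift y UT))) := by
  rw [mWord, lift_lift, ← FreeGroup.range_lift_eq_closure]
  refine ⟨(exists_word closure_cyc g).choose, ?_⟩
  exact congrArg (fun F => FreeGroup.lift F _) (funext fun i => (map_yv _ _ _ _ i).symm)

theorem mWord_eval {H : Type} [Group H] (ι : Alt2 (ZMod m) →* H) {T : H} {s : κ → H}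
    (hcyc : ∀ i, T * ι (cyc i) * T⁻¹ = ι (cyc (i + 1)) ^ (f : ℤ))
    (hUX : FreeGroup.lift s UX = ι (cyc 0)) (hUT : FreeGroup.lift s UT = T) (g : Alt2 (ZMod m)) :
    FreeGroup.lift s (mWord (f := f) UX UT g) = ι g := by
  rw [mWord, lift_lift]
  conv_rhs => rw [← (exists_word closure_cyc g).choose_spec, map_lift]
  refine congrArg (fun F => FreeGroup.lift F _) (funext fun i => ?_)
  rw [map_yv, hUX, hUT, yv_target ι T f hcyc]

end words

section alt

variable {m : ℕ} [NeZero m]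

/-- The rotation of the alternating group. -/
def altT (m : ℕ) [NeZero m] : Alt2 (ZMod m) := evenLift (Equiv.addLeft (1 : ZMod m))

theorem altT_cyc (i : ZMod m) : altT m * MonoidHom.id _ (cyc i) * (altT m)⁻¹ =
    MonoidHom.id _ (cyc (i + 1)) ^ ((sign (Equiv.addLeft (1 : ZMod m)) : ℤˣ) : ℤ) := by
  simp only [MonoidHom.id_apply, altT, evenLift_conj, Equiv.coe_addLeft, add_comm (1 : ZMod m)]

theorem altT_lift (π : Perm (ZMod m)) : altT m * MonoidHom.id _ (evenLift π) * (altT m)⁻¹ =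
    MonoidHom.id _ (evenLift (Equiv.addLeft (1 : ZMod m) * π * (Equiv.addLeft (1 : ZMod m))⁻¹)) := by
  simp only [MonoidHom.id_apply, altT, ← map_inv, ← map_mul]

theorem alt_pair_gen : closure (Set.range ![(cyc 0 : Alt2 (ZMod m)), altT m]) = ⊤ := by
  rw [eq_top_iff, ← closure_cyc, closure_le]
  rintro _ ⟨i, rfl⟩
  have h := yv_target (MonoidHom.id _) (altT m) _ altT_cyc i
  simp only [MonoidHom.id_apply] at h
  rw [← h]
  refine Subgroup.zpow_mem _ (mul_mem (mul_mem (pow_mem ?_ _) ?_) (inv_mem (pow_mem ?_ _))) _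
  exacts [subset_closure ⟨1, rfl⟩, subset_closure ⟨0, rfl⟩, subset_closure ⟨1, rfl⟩]

theorem pres_alt_two (hm : 3 ≤ m) : Pres ![(cyc 0 : Alt2 (ZMod m)), altT m] 8 := by
  classical
  set s : Fin 2 → Alt2 (ZMod m) := ![cyc 0, altT m] with hs
  let UX : FreeGroup (Fin 2) := FreeGroup.of 0
  let UT : FreeGroup (Fin 2) := FreeGroup.of 1
  set f := sign (Equiv.addLeft (1 : ZMod m))
  have hUX : FreeGroup.lift s UX = MonoidHom.id _ (cyc 0) := by simp [UX, hs]
  have hUT : FreeGroup.lift s UT = altT m := by simp [UT, hs]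
  refine (pres_target (MonoidHom.id _) (altT m) f hm altT_cyc altT_lift alt_pair_gen UX UT hUX hUT
    {UT * (mWord (f := f) UX UT (altT m))⁻¹} (e := 1) (one_mul _) ?_ ?_).mono (by simp)
  · simp only [Finset.mem_singleton, forall_eq, map_mul, map_inv,
      mWord_eval UX UT (MonoidHom.id _) altT_cyc hUX hUT, ← hs, hUT, MonoidHom.id_apply, mul_inv_cancel]
  · intro G _ y hr hq g hg
    refine cover_one hr y (fun k => ?_) g hg
    simp only [Finset.mem_singleton, forall_eq, map_mul, map_inv, mul_inv_eq_one] at hq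
    fin_cases k
    · have h := hr.base
      simp only [UX, FreeGroup.lift_apply_of] at h ⊢
      exact subset_closure ⟨0, h⟩
    · have h : FreeGroup.lift y UT = y 1 := FreeGroup.lift_apply_of
      show y 1 ∈ _
      rw [show y 1 = _ from h.symm.trans hq]
      exact mWord_mem UX UT y _

theorem pres_alt_pair (hm : 3 ≤ m) {κ : Type} [Fintype κ] {s : κ → Alt2 (ZMod m)}
    (hs : closure (Set.range s) = ⊤) : Pres s (7 + Fintype.card κ) := by
  classical
  obtain ⟨UX, hUX⟩ := exists_word hs (cyc 0)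
  obtain ⟨UT, hUT⟩ := exists_word hs (altT m)
  set f := sign (Equiv.addLeft (1 : ZMod m))
  refine (pres_target (MonoidHom.id _) (altT m) f hm altT_cyc altT_lift hs UX UT hUX hUT
    (Finset.univ.image fun k => FreeGroup.of k * (mWord (f := f) UX UT (s k))⁻¹) (e := 1) (one_mul _) ?_ ?_).mono
    (Nat.add_le_add_left (Finset.card_image_le.trans (le_of_eq Finset.card_univ)) _)
  · simp only [Finset.forall_mem_image, Finset.mem_univ, forall_const, map_mul, map_inv, FreeGroup.lift_apply_of,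
      mWord_eval UX UT (MonoidHom.id _) altT_cyc hUX hUT, MonoidHom.id_apply, mul_inv_cancel, implies_true]
  · intro G _ y hr hq g hg
    refine cover_one hr y (fun k => ?_) g hg
    simp only [Finset.forall_mem_image, Finset.mem_univ, forall_const, map_mul, map_inv, FreeGroup.lift_apply_of,
      mul_inv_eq_one] at hq
    rw [@hq k]
    exact mWord_mem UX UT y _

end alt

section sym

variable {m : ℕ} [NeZero m]

/-- The odd rotation of the symmetric group. -/
def symT (m : ℕ) [NeZero m] : Perm (ZMod m ⊕ Fin 2) :=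
  (tau : Perm (ZMod m ⊕ Fin 2)) * ((evenLift (Equiv.addLeft (1 : ZMod m)) : Alt2 (ZMod m)) : Perm (ZMod m ⊕ Fin 2))

theorem sign_symT : sign (symT m) = -1 := by
  rw [symT, map_mul, sign_tau, mem_alternatingGroup.1 (evenLift (Equiv.addLeft (1 : ZMod m))).2, mul_one]

theorem tau_evenLift (π : Perm (ZMod m)) :
    (tau : Perm (ZMod m ⊕ Fin 2)) * ((evenLift π : Alt2 (ZMod m)) : Perm (ZMod m ⊕ Fin 2)) * tau⁻¹ =
      ((evenLift π : Alt2 (ZMod m)) : Perm (ZMod m ⊕ Fin 2)) := by
  rw [mul_inv_eq_iff_eq_mul]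
  refine Equiv.ext fun z => ?_
  rcases z with j | j
  · simp [tau, swap_apply_def]
  · rcases Int.units_eq_one_or (sign π) with h | h <;> fin_cases j <;>
      simp [tau, evenLift, flip2, h]

theorem symT_cyc (i : ZMod m) : symT m * (Alt2 (ZMod m)).subtype (cyc i) * (symT m)⁻¹ =
    (Alt2 (ZMod m)).subtype (cyc (i + 1)) ^ ((-sign (Equiv.addLeft (1 : ZMod m)) : ℤˣ) : ℤ) := by
  have h := congrArg (Subtype.val : Alt2 (ZMod m) → Perm (ZMod m ⊕ Fin 2))
    (evenLift_conj (Equiv.addLeft (1 : ZMod m)) i)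
  simp only [Subgroup.coe_mul, Subgroup.coe_inv, cyc_coe, SubgroupClass.coe_zpow, Equiv.coe_addLeft] at h
  simp only [Subgroup.coe_subtype, cyc_coe, symT, mul_inv_rev]
  rw [show ∀ (a b c : Perm (ZMod m ⊕ Fin 2)), a * b * c * (b⁻¹ * a⁻¹) = a * (b * c * b⁻¹) * a⁻¹ from
    fun a b c => by group, h, ← conj_zpow, tau_conj, inv_zpow', Units.val_neg, add_comm (1 : ZMod m)]

theorem symT_lift (π : Perm (ZMod m)) : symT m * (Alt2 (ZMod m)).subtype (evenLift π) * (symT m)⁻¹ =
    (Alt2 (ZMod m)).subtype (evenLift (Equiv.addLeft (1 : ZMod m) * π * (Equiv.addLeft (1 : ZMod m))⁻¹)) := by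
  simp only [Subgroup.coe_subtype, symT, mul_inv_rev]
  rw [show ∀ (a b c : Perm (ZMod m ⊕ Fin 2)), a * b * c * (b⁻¹ * a⁻¹) = a * (b * c * b⁻¹) * a⁻¹ from
    fun a b c => by group]
  rw [← Subgroup.coe_inv, ← Subgroup.coe_mul, ← Subgroup.coe_mul, ← map_inv, ← map_mul, ← map_mul, tau_evenLift]

theorem sym_card : 2 * Nat.card (Alt2 (ZMod m)) = Nat.card (Perm (ZMod m ⊕ Fin 2)) := by
  haveI : Nontrivial (ZMod m ⊕ Fin 2) := ⟨Sum.inr 0, Sum.inr 1, by simp⟩
  exact two_mul_nat_card_alternatingGroup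

theorem closure_eq_top_of_odd {K : Subgroup (Perm (ZMod m ⊕ Fin 2))}
    (hA : ∀ g : Alt2 (ZMod m), (g : Perm (ZMod m ⊕ Fin 2)) ∈ K) {o : Perm (ZMod m ⊕ Fin 2)}
    (ho : o ∈ K) (hs : sign o = -1) : K = ⊤ := by
  refine eq_top_iff.2 fun g _ => ?_
  rcases Int.units_eq_one_or (sign g) with h | h
  · exact hA ⟨g, h⟩
  · have h' : sign (g * o) = 1 := by rw [map_mul, h, hs]; rfl
    have := mul_mem (hA ⟨g * o, h'⟩) (inv_mem ho)
    rwa [show g * o * o⁻¹ = g by group] at this

theorem sym_pair_gen : closure (Set.range ![((cyc 0 : Alt2 (ZMod m)) : Perm (ZMod m ⊕ Fin 2)), symT m]) = ⊤ := by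
  refine closure_eq_top_of_odd (fun g => ?_) (subset_closure ⟨1, rfl⟩) sign_symT
  have hle : closure (Set.range (cyc : ZMod m → Alt2 (ZMod m))) ≤
      (closure (Set.range ![((cyc 0 : Alt2 (ZMod m)) : Perm (ZMod m ⊕ Fin 2)), symT m])).comap
        (Alt2 (ZMod m)).subtype := by
    rw [closure_le]
    rintro _ ⟨i, rfl⟩
    rw [SetLike.mem_coe, Subgroup.mem_comap, ← yv_target _ (symT m) _ symT_cyc i]
    refine Subgroup.zpow_mem _ (mul_mem (mul_mem (pow_mem ?_ _) ?_) (inv_mem (pow_mem ?_ _))) _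
    exacts [subset_closure ⟨1, rfl⟩, subset_closure ⟨0, rfl⟩, subset_closure ⟨1, rfl⟩]
  exact hle (closure_cyc (α := ZMod m) ▸ Subgroup.mem_top g)

theorem pres_sym_two (hm : 3 ≤ m) :
    Pres ![((cyc 0 : Alt2 (ZMod m)) : Perm (ZMod m ⊕ Fin 2)), symT m] 8 := by
  classical
  set s : Fin 2 → Perm (ZMod m ⊕ Fin 2) := ![((cyc 0 : Alt2 (ZMod m)) : Perm (ZMod m ⊕ Fin 2)), symT m] with hs
  let UX : FreeGroup (Fin 2) := FreeGroup.of 0
  let UT : FreeGroup (Fin 2) := FreeGroup.of 1
  set f := -sign (Equiv.addLeft (1 : ZMod m))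
  have hUX : FreeGroup.lift s UX = (Alt2 (ZMod m)).subtype (cyc 0) := by simp [UX, hs]
  have hUT : FreeGroup.lift s UT = symT m := by simp [UT, hs]
  let T2 : Alt2 (ZMod m) := ⟨symT m ^ 2, by rw [mem_alternatingGroup, map_pow, sign_symT]; rfl⟩
  refine (pres_target (Alt2 (ZMod m)).subtype (symT m) f hm symT_cyc symT_lift sym_pair_gen UX UT hUX hUT
    {UT ^ 2 * (mWord (f := f) UX UT T2)⁻¹} (e := 2) sym_card ?_ ?_).mono (by simp)
  · simp only [Finset.mem_singleton, forall_eq, map_mul, map_inv, map_pow,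
      mWord_eval UX UT (Alt2 (ZMod m)).subtype symT_cyc hUX hUT, ← hs, hUT]
    exact mul_inv_cancel _
  · intro G _ y hr hq g hg
    simp only [Finset.mem_singleton, forall_eq, map_mul, map_inv, map_pow, mul_inv_eq_one] at hq
    refine cover_two hr (hq ▸ mWord_mem UX UT y _) y (fun k => ?_) g hg
    fin_cases k
    · have h := hr.base
      simp only [UX, FreeGroup.lift_apply_of] at h ⊢
      exact mem_sup_right (subset_closure ⟨0, h⟩)
    · have h : FreeGroup.lift y UT = y 1 := FreeGroup.lift_apply_of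
      show y 1 ∈ _
      rw [← h]
      exact mem_sup_left (mem_zpowers _)

theorem pres_sym_pair (hm : 3 ≤ m) {s : Fin 2 → Perm (ZMod m ⊕ Fin 2)}
    (hs : closure (Set.range s) = ⊤) : Pres s 9 := by
  classical
  obtain ⟨k₀, hk₀⟩ : ∃ k, sign (s k) = -1 := by
    by_contra hne
    rw [not_exists] at hne
    have hle : closure (Set.range s) ≤ alternatingGroup (ZMod m ⊕ Fin 2) := by
      rw [closure_le]
      rintro _ ⟨k, rfl⟩
      exact mem_alternatingGroup.2 ((Int.units_eq_one_or _).resolve_right (hne k))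
    rw [hs] at hle
    have h1 : sign (symT m) = 1 := mem_alternatingGroup.1 (hle (Subgroup.mem_top (symT m)))
    rw [sign_symT] at h1
    exact absurd h1 (by decide)
  obtain ⟨k₁, hk₁⟩ : ∃ k₁ : Fin 2, ∀ k, k = k₀ ∨ k = k₁ :=
    ⟨k₀ + 1, fun k => by fin_cases k <;> fin_cases k₀ <;> decide⟩
  obtain ⟨UX, hUX⟩ := exists_word hs ((Alt2 (ZMod m)).subtype (cyc 0))
  obtain ⟨w, hwc, hw⟩ : ∃ w ∈ commutator (FreeGroup (Fin 2)), FreeGroup.lift s w = (s k₀)⁻¹ * symT m := by
    have hmap : (commutator (FreeGroup (Fin 2))).map (FreeGroup.lift s) = alternatingGroup (ZMod m ⊕ Fin 2) := by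
      have hsurj : Function.Surjective (FreeGroup.lift s) := exists_word hs
      rw [commutator_def, Subgroup.map_commutator, Subgroup.map_top_of_surjective _ hsurj, ← commutator_def]
      refine alternatingGroup.commutator_perm_eq ?_
      rw [Nat.card_eq_fintype_card, Fintype.card_sum, ZMod.card, Fintype.card_fin]; omega
    have hmem : (s k₀)⁻¹ * symT m ∈ alternatingGroup (ZMod m ⊕ Fin 2) := by
      rw [mem_alternatingGroup, map_mul, map_inv, hk₀, sign_symT]; rfl
    rw [← hmap] at hmem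
    obtain ⟨w, h1, h2⟩ := hmem
    exact ⟨w, h1, h2⟩
  let UT : FreeGroup (Fin 2) := FreeGroup.of k₀ * w
  have hUT : FreeGroup.lift s UT = symT m := by
    simp only [UT, map_mul, FreeGroup.lift_apply_of, hw, mul_inv_cancel_left]
  set f := -sign (Equiv.addLeft (1 : ZMod m))
  let π : ℕ := if sign (s k₁) = 1 then 0 else 1
  have hπ : sign (s k₁) = (-1) ^ π := by
    rcases Int.units_eq_one_or (sign (s k₁)) with h | h <;> simp [π, h]
  let V1 : Alt2 (ZMod m) := ⟨symT m * s k₀, by rw [mem_alternatingGroup, map_mul, sign_symT, hk₀]; rfl⟩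
  let V2 : Alt2 (ZMod m) := ⟨(s k₀ ^ π)⁻¹ * s k₁, by
    rw [mem_alternatingGroup, map_mul, map_inv, map_pow, hk₀, hπ]; exact inv_mul_cancel _⟩
  refine (pres_target (Alt2 (ZMod m)).subtype (symT m) f hm symT_cyc symT_lift hs UX UT hUX hUT
    {UT * FreeGroup.of k₀ * (mWord (f := f) UX UT V1)⁻¹,
      (FreeGroup.of k₀ ^ π)⁻¹ * FreeGroup.of k₁ * (mWord (f := f) UX UT V2)⁻¹} (e := 2) sym_card ?_ ?_).mono
    (Nat.add_le_add_left Finset.card_le_two 7)
  · simp only [Finset.forall_mem_insert, Finset.mem_singleton, forall_eq, map_mul, map_inv, map_pow,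
      mWord_eval UX UT (Alt2 (ZMod m)).subtype symT_cyc hUX hUT, FreeGroup.lift_apply_of, hUT]
    exact ⟨mul_inv_cancel _, mul_inv_cancel _⟩
  · intro G _ y hr hq g hg
    simp only [Finset.forall_mem_insert, Finset.mem_singleton, forall_eq, map_mul, map_inv, map_pow,
      mul_inv_eq_one, FreeGroup.lift_apply_of] at hq
    obtain ⟨hq1, hq2⟩ := hq
    set t := FreeGroup.lift y UT with ht
    set M := closure (Set.range (yv (m := m) f (FreeGroup.lift y UX) t)) with hM
    have h1 : t * y k₀ ∈ M := hq1 ▸ mWord_mem UX UT y _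
    have h2 : (y k₀ ^ π)⁻¹ * y k₁ ∈ M := hq2 ▸ mWord_mem UX UT y _
    set N := normalizer (M : Set G) with hN
    have htN : t ∈ N := hr.shift_mem_normalizer
    have hMN : M ≤ N := le_normalizer
    have hk0N : y k₀ ∈ N := by
      have := mul_mem (inv_mem htN) (hMN h1)
      rwa [inv_mul_cancel_left] at this
    have hyN : ∀ k, y k ∈ N := fun k => by
      rcases hk₁ k with rfl | rfl
      · exact hk0N
      · have := mul_mem (pow_mem hk0N π) (hMN h2)
        rwa [mul_inv_cancel_left] at this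
    -- modulo `M` the commutator word disappears
    haveI : (M.subgroupOf N).Normal := normal_in_normalizer
    let q : N →* N ⧸ M.subgroupOf N := QuotientGroup.mk' _
    let F : FreeGroup (Fin 2) →* N ⧸ M.subgroupOf N := FreeGroup.lift fun k => q ⟨y k, hyN k⟩
    let tq := q ⟨t, htN⟩
    have hq0 : ∀ v : N, (v : G) ∈ M → q v = 1 := fun v hv =>
      (QuotientGroup.eq_one_iff v).2 (Subgroup.mem_subgroupOf.2 hv)
    have hy0 : q ⟨y k₀, hyN k₀⟩ = tq⁻¹ :=
      eq_inv_of_mul_eq_one_right (by rw [← map_mul]; exact hq0 _ h1)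
    have hy1 : q ⟨y k₁, hyN k₁⟩ = tq⁻¹ ^ π := by
      rw [← hy0, ← map_pow, eq_comm, ← inv_mul_eq_one, ← map_inv, ← map_mul]
      exact hq0 _ h2
    let E : FreeGroup (Fin 2) →* Multiplicative ℤ :=
      FreeGroup.lift fun k => Multiplicative.ofAdd (if k = k₀ then -1 else -(π : ℤ))
    have hFE : F = (zpowersHom _ tq).comp E := by
      refine FreeGroup.ext_hom _ _ fun k => ?_
      simp only [F, E, MonoidHom.comp_apply, FreeGroup.lift_apply_of, zpowersHom_apply, toAdd_ofAdd]
      by_cases hk : k = k₀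
      · rw [if_pos hk, hk, hy0, zpow_neg_one]
      · rw [if_neg hk, (hk₁ k).resolve_left hk, hy1, zpow_neg, zpow_natCast, inv_pow]
    have hFw : F w = 1 := by
      have hE : w ∈ E.ker := Abelianization.commutator_subset_ker E hwc
      rw [hFE, MonoidHom.comp_apply, MonoidHom.mem_ker.1 hE, map_one]
    have hsub : F = q.comp (FreeGroup.lift fun k => (⟨y k, hyN k⟩ : N)) :=
      FreeGroup.ext_hom _ _ fun k => by simp [F]
    have hval : ((FreeGroup.lift fun k => (⟨y k, hyN k⟩ : N)) UT : G) = t := map_lift N.subtype _ UT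
    have ht2 : tq = tq⁻¹ := by
      have e : F UT = tq := by
        rw [hsub, MonoidHom.comp_apply]; exact congrArg q (Subtype.ext hval)
      rw [← hy0, ← e]
      simp only [UT, map_mul, hFw, mul_one]
      exact FreeGroup.lift_apply_of
    have htM : t ^ 2 ∈ M := by
      have : q (⟨t, htN⟩ ^ 2) = 1 := by
        rw [map_pow, pow_two]; nth_rewrite 2 [show q ⟨t, htN⟩ = tq⁻¹ from ht2]; exact mul_inv_cancel tq
      exact Subgroup.mem_subgroupOf.1 ((QuotientGroup.eq_one_iff _).1 this)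
    refine cover_two hr htM y (fun k => ?_) g hg
    have hk0 : y k₀ ∈ zpowers t ⊔ M := by
      have := mul_mem (inv_mem (mem_sup_left (mem_zpowers t))) (mem_sup_right (S := zpowers t) h1)
      rwa [inv_mul_cancel_left] at this
    rcases hk₁ k with rfl | rfl
    · exact hk0
    · have := mul_mem (pow_mem hk0 π) (mem_sup_right (S := zpowers t) h2)
      rwa [mul_inv_cancel_left] at this

end sym

/-- Presentations of both groups on chosen pairs and on arbitrary pairs, `5 ≤ n`. -/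
theorem short_pres {n : ℕ} (hn : 5 ≤ n) :
    ((∃ s : Fin 2 → Perm (Fin n), closure (Set.range s) = ⊤ ∧ Pres s 8) ∧
      ∀ s : Fin 2 → Perm (Fin n), closure (Set.range s) = ⊤ → Pres s 9) ∧
    ((∃ s : Fin 2 → alternatingGroup (Fin n), closure (Set.range s) = ⊤ ∧ Pres s 8) ∧
      ∀ s : Fin 2 → alternatingGroup (Fin n), closure (Set.range s) = ⊤ → Pres s 9) := by
  classical
  obtain ⟨m, rfl⟩ : ∃ m, n = m + 2 := ⟨n - 2, by omega⟩
  haveI : NeZero m := ⟨by omega⟩
  have hm : 3 ≤ m := by omega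
  let E : ZMod m ⊕ Fin 2 ≃ Fin (m + 2) := Fintype.equivOfCardEq (by simp [ZMod.card])
  have move : ∀ {H H' : Type} [Group H] [Group H'] (c : H ≃* H') (s : Fin 2 → H),
      closure (Set.range s) = ⊤ → closure (Set.range fun i => c (s i)) = ⊤ := by
    intro H H' _ _ c s h
    rw [show (Set.range fun i => c (s i)) = c.toMonoidHom '' Set.range s from Set.range_comp _ _,
      ← MonoidHom.map_closure, h, Subgroup.map_top_of_surjective _ c.surjective]
  let cS : Perm (ZMod m ⊕ Fin 2) ≃* Perm (Fin (m + 2)) := E.permCongrHom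
  let cA : Alt2 (ZMod m) ≃* alternatingGroup (Fin (m + 2)) := E.altCongrHom
  refine ⟨⟨⟨_, move cS _ sym_pair_gen, (pres_sym_two hm).map_equiv cS⟩, fun s hs => ?_⟩,
    ⟨⟨_, move cA _ alt_pair_gen, (pres_alt_two hm).map_equiv cA⟩, fun s hs => ?_⟩⟩
  · simpa using (pres_sym_pair hm (move cS.symm s hs)).map_equiv cS
  · simpa using (pres_alt_pair hm (move cA.symm s hs)).map_equiv cA

end Cfsg.Agent.Lib.ShortPres
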