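import Mathlib
import Cfsg.Agent.Lib.ShortPres.Instances
import Cfsg.Agent.Lib.BoundedPresentation.AltPres

/-!
Short presentations of the alternating and symmetric groups of degree at most four.
-/

set_option autoImplicit false
set_option linter.style.haveILetI false

namespace Cfsg.Agent.Lib.ShortPres

open Equiv Equiv.Perm Subgroup
open Cfsg.Agent.Lib.BoundedPresentation
open scoped Pointwise

/-- A split metacyclic group has three relators. -/
theorem pres_metacyclic {H : Type} [Group H] (A B : H) (k l j : ℕ) (hk : 0 < k) (hl : 0 < l)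
    (hA : A ^ k = 1) (hB : B ^ l = 1) (hAB : B * A * B⁻¹ = A ^ j) (hcard : k * l = Nat.card H)
    (hgen : ∀ g : H, ∃ (r : Fin k) (q : Fin l), g = A ^ (r : ℕ) * B ^ (q : ℕ)) :
    Pres ![A, B] 3 ∧ closure (Set.range ![A, B]) = ⊤ := by
  classical
  have hs : closure (Set.range ![A, B]) = ⊤ := by
    refine eq_top_iff.2 fun g _ => ?_
    obtain ⟨r, q, rfl⟩ := hgen g
    have h0 : A ∈ closure (Set.range ![A, B]) := Subgroup.subset_closure ⟨0, rfl⟩
    have h1 : B ∈ closure (Set.range ![A, B]) := Subgroup.subset_closure ⟨1, rfl⟩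
    exact mul_mem (pow_mem h0 _) (pow_mem h1 _)
  refine ⟨⟨{FreeGroup.of 0 ^ k, FreeGroup.of 1 ^ l,
    FreeGroup.of 1 * FreeGroup.of 0 * (FreeGroup.of 1)⁻¹ * (FreeGroup.of 0 ^ j)⁻¹}, Finset.card_le_three, ?_, ?_⟩, hs⟩
  · simp [hA, hB, hAB]
  intro G _ y hy
  simp only [Finset.forall_mem_insert, Finset.mem_singleton, forall_eq, map_pow, map_mul, map_inv,
    FreeGroup.lift_apply_of, mul_inv_eq_one] at hy
  obtain ⟨h1, h2, h3⟩ := hy
  set a : H × G := (A, y 0) with ha
  set b : H × G := (B, y 1) with hb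
  have ea : a ^ k = 1 := Prod.ext hA h1
  have eb : b ^ l = 1 := Prod.ext hB h2
  have eab : b * a * b⁻¹ = a ^ j := Prod.ext hAB h3
  haveI : Finite (zpowers a : Set (H × G)) :=
    (isOfFinOrder_iff_pow_eq_one.2 ⟨k, hk, ea⟩).finite_zpowers.to_subtype
  haveI : Finite (zpowers b : Set (H × G)) :=
    (isOfFinOrder_iff_pow_eq_one.2 ⟨l, hl, eb⟩).finite_zpowers.to_subtype
  have hnorm : zpowers b ≤ normalizer (zpowers a : Set (H × G)) := by
    rw [zpowers_le]
    refine mem_normalizer_fintype fun n hn => ?_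
    obtain ⟨i, rfl⟩ := mem_zpowers_iff.1 hn
    rw [← conj_zpow, eab]
    exact Subgroup.zpow_mem _ (pow_mem (mem_zpowers a) j) i
  set D := closure (Set.range fun i => ((![A, B]) i, y i)) with hD
  have hDle : (D : Set (H × G)) ⊆ (zpowers b : Set (H × G)) * (zpowers a : Set (H × G)) := by
    rw [← coe_mul_of_left_le_normalizer_right _ (zpowers a) hnorm]
    refine SetLike.coe_subset_coe.2 ((closure_le _).2 ?_)
    rintro _ ⟨i, rfl⟩
    fin_cases i
    · exact mem_sup_right (mem_zpowers a)
    · exact mem_sup_left (mem_zpowers b)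
  have hfin : ((zpowers b : Set (H × G)) * (zpowers a : Set (H × G))).Finite := (Set.toFinite _).mul (Set.toFinite _)
  refine exists_hom_of_card hs y (hfin.subset hDle) ?_
  calc Nat.card D ≤ Nat.card ((zpowers b : Set (H × G)) * (zpowers a : Set (H × G)) : Set (H × G)) :=
        Nat.card_mono hfin hDle
    _ ≤ Nat.card (zpowers b) * Nat.card (zpowers a) := Set.natCard_mul_le
    _ ≤ l * k := Nat.mul_le_mul (by rw [Nat.card_zpowers]; exact orderOf_le_of_pow_eq_one hl eb)
        (by rw [Nat.card_zpowers]; exact orderOf_le_of_pow_eq_one hk ea)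
    _ = Nat.card H := by rw [mul_comm, hcard]

/-- The symmetric group of degree four. -/
theorem pres_sym_four : ∃ s : Fin 2 → Perm (Fin 4), closure (Set.range s) = ⊤ ∧ Pres s 3 := by
  classical
  let X : Perm (ZMod 2 ⊕ Fin 2) := (cyc 0 : Alt2 (ZMod 2))
  let T : Perm (ZMod 2 ⊕ Fin 2) := swap (Sum.inl 0) (Sum.inl 1)
  set s : Fin 2 → Perm (ZMod 2 ⊕ Fin 2) := ![X, T] with hs
  have hcyc : ∀ i : ZMod 2, T * (Alt2 (ZMod 2)).subtype (cyc i) * T⁻¹ =
      (Alt2 (ZMod 2)).subtype (cyc (i + 1)) ^ (((1 : ℤˣ)) : ℤ) := by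
    intro i
    rw [Units.val_one, zpow_one]
    show T * cycP i * T⁻¹ = cycP (i + 1)
    revert i; decide
  have htop : closure (Set.range s) = ⊤ := by
    refine closure_eq_top_of_odd (fun g => ?_) (subset_closure ⟨1, rfl⟩) (sign_swap (by simp))
    have hle : closure (Set.range (cyc : ZMod 2 → Alt2 (ZMod 2))) ≤
        (closure (Set.range s)).comap (Alt2 (ZMod 2)).subtype := by
      rw [closure_le]
      rintro _ ⟨i, rfl⟩
      rw [SetLike.mem_coe, Subgroup.mem_comap, ← yv_target _ T _ hcyc i]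
      refine Subgroup.zpow_mem _ (mul_mem (mul_mem (pow_mem ?_ _) ?_) (inv_mem (pow_mem ?_ _))) _
      exacts [subset_closure ⟨1, rfl⟩, subset_closure ⟨0, rfl⟩, subset_closure ⟨1, rfl⟩]
    exact hle (closure_cyc (α := ZMod 2) ▸ Subgroup.mem_top g)
  have hX3 : X ^ 3 = 1 := congrArg Subtype.val (carm_cyc.cube (0 : ZMod 2))
  have hTT : T ^ 2 = 1 := by rw [pow_two]; exact swap_mul_self _ _
  have hXT : (X * (T * X * T⁻¹)) ^ 2 = 1 := by
    have h := congrArg Subtype.val (carm_cyc.pair (0 : ZMod 2) (0 + 1) (by decide))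
    have e := hcyc 0
    rw [Units.val_one, zpow_one] at e
    change T * X * T⁻¹ = _ at e
    rw [e]; exact h
  have hP : Pres s 3 := by
    refine ⟨{FreeGroup.of 0 ^ 3, FreeGroup.of 1 ^ 2,
      (FreeGroup.of 0 * (FreeGroup.of 1 * FreeGroup.of 0 * (FreeGroup.of 1)⁻¹)) ^ 2}, Finset.card_le_three, ?_, ?_⟩
    · simp only [Finset.forall_mem_insert, Finset.mem_singleton, forall_eq, map_pow, map_mul, map_inv,
        FreeGroup.lift_apply_of]
      exact ⟨hX3, hTT, hXT⟩
    intro G _ y hy
    simp only [Finset.forall_mem_insert, Finset.mem_singleton, forall_eq, map_pow, map_mul, map_inv,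
      FreeGroup.lift_apply_of] at hy
    obtain ⟨h1, h2, h3⟩ := hy
    set x : Perm (ZMod 2 ⊕ Fin 2) × G := (X, y 0) with hx
    set t : Perm (ZMod 2 ⊕ Fin 2) × G := (T, y 1) with ht
    have ex : x ^ 3 = 1 := Prod.ext hX3 h1
    have et : t ^ 2 = 1 := Prod.ext hTT h2
    have ext3 : (x * (t * x * t⁻¹)) ^ 2 = 1 := Prod.ext hXT h3
    have ett : t * t = 1 := by rw [← pow_two]; exact et
    have y0 : yv (1 : ℤˣ) x t (0 : ZMod 2) = x := by simp [yv]
    have y1 : yv (1 : ℤˣ) x t (1 : ZMod 2) = t * x * t⁻¹ := by simp [yv, ZMod.val_one]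
    have hr : Rules 2 (1 : ℤˣ) x t := by
      refine ⟨y0, by rw [ex, one_pow], by rw [ex]; exact Commute.one_right t, fun i => ?_, fun i j hij => ?_,
        fun i => ?_⟩
      · rw [ex]
        fin_cases i
        · exact (congrArg (· ^ 3) y0).trans ex
        · exact (congrArg (· ^ 3) y1).trans (by rw [conj_pow, ex]; group)
      · rw [ex]
        fin_cases i <;> fin_cases j
        · exact absurd rfl hij
        · exact (congrArg₂ (fun a b => (a * b) ^ 2) y0 y1).trans ext3
        · refine (congrArg₂ (fun a b => (a * b) ^ 2) y1 y0).trans ?_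
          rw [show t * x * t⁻¹ * x = x⁻¹ * (x * (t * x * t⁻¹)) * (x⁻¹)⁻¹ by group, conj_pow, ext3]
          group
        · exact absurd rfl hij
      · rw [Units.val_one, zpow_one]
        fin_cases i
        · exact (congrArg (fun a => t * a * t⁻¹) y0).trans y1.symm
        · refine (congrArg (fun a => t * a * t⁻¹) y1).trans (Eq.trans ?_ y0.symm)
          rw [show t * (t * x * t⁻¹) * t⁻¹ = (t * t) * x * (t * t)⁻¹ by group, ett]
          group
    obtain ⟨hfin, -, hc⟩ := hr.cover_bound (closure (Set.range fun i => (s i, y i))) (e := 2)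
      (cover_two hr (et.symm ▸ one_mem _) _ fun i => by
        fin_cases i
        · exact mem_sup_right (subset_closure ⟨0, y0⟩)
        · exact mem_sup_left (mem_zpowers t))
    exact exists_hom_of_card htop y hfin ((hc ex).trans_eq sym_card)
  let E : ZMod 2 ⊕ Fin 2 ≃ Fin 4 := Fintype.equivOfCardEq (by simp [ZMod.card])
  refine ⟨fun i => E.permCongrHom (s i), ?_, hP.map_equiv _⟩
  rw [show (Set.range fun i => E.permCongrHom (s i)) = E.permCongrHom.toMonoidHom '' Set.range s from
    Set.range_comp _ _, ← MonoidHom.map_closure, htop, Subgroup.map_top_of_surjective _ E.permCongrHom.surjective]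

/-- Both groups in degree at most four. -/
theorem short_pres_small {n : ℕ} (hn : n ≤ 4) :
    (∃ s : Fin 2 → Perm (Fin n), closure (Set.range s) = ⊤ ∧ Pres s 8) ∧
      ∃ s : Fin 2 → alternatingGroup (Fin n), closure (Set.range s) = ⊤ ∧ Pres s 8 := by
  have triv : ∀ (H : Type) [Group H] [Subsingleton H], ∃ s : Fin 2 → H, closure (Set.range s) = ⊤ ∧ Pres s 8 := by
    intro H _ _
    obtain ⟨h, h'⟩ := pres_metacyclic (1 : H) 1 1 1 1 one_pos one_pos (by simp) (by simp) (by simp)
      (by simp) (fun g => ⟨0, 0, Subsingleton.elim _ _⟩)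
    exact ⟨_, h', h.mono (by omega)⟩
  interval_cases n
  · exact ⟨triv _, triv _⟩
  · exact ⟨triv _, triv _⟩
  · refine ⟨?_, ?_⟩
    · obtain ⟨h, h'⟩ := pres_metacyclic (1 : Perm (Fin 2)) (swap 0 1) 1 2 1 one_pos two_pos (by simp)
        (by decide) (by simp) (by rw [Nat.card_perm, Nat.card_fin]; rfl) (by decide)
      exact ⟨_, h', h.mono (by omega)⟩
    · haveI : Subsingleton (alternatingGroup (Fin 2)) := by
        rw [← Finite.card_le_one_iff_subsingleton]
        have := two_mul_nat_card_alternatingGroup (α := Fin 2)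
        rw [Nat.card_perm, Nat.card_fin, show Nat.factorial 2 = 2 from rfl] at this
        omega
      exact triv _
  · refine ⟨?_, ?_⟩
    · obtain ⟨h, h'⟩ := pres_metacyclic (finRotate 3) (swap 0 1) 3 2 2 (by omega) two_pos (by decide)
        (by decide) (by decide) (by rw [Nat.card_perm, Nat.card_fin]; rfl) (by decide)
      exact ⟨_, h', h.mono (by omega)⟩
    · let c : alternatingGroup (Fin 3) := ⟨finRotate 3, mem_alternatingGroup.2 (by decide)⟩
      have hcard : Nat.card (alternatingGroup (Fin 3)) = 3 := by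
        have := two_mul_nat_card_alternatingGroup (α := Fin 3)
        rw [Nat.card_perm, Nat.card_fin, show Nat.factorial 3 = 6 from rfl] at this
        omega
      obtain ⟨h, h'⟩ := pres_metacyclic c 1 3 1 1 (by omega) one_pos (by decide) (by simp)
        (by simp) (by rw [hcard]) (by decide)
      exact ⟨_, h', h.mono (by omega)⟩
  · refine ⟨?_, ?_⟩
    · obtain ⟨s, hs, h⟩ := pres_sym_four
      exact ⟨s, hs, h.mono (by omega)⟩
    · let E : Fin 2 ⊕ Fin 2 ≃ Fin 4 := finSumFinEquiv
      refine ⟨fun i => E.altCongrHom (altGen (Fin 2) 0 i), ?_, (pres_two.mono (by omega)).map_equiv _⟩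
      rw [show (Set.range fun i => E.altCongrHom (altGen (Fin 2) 0 i)) =
        E.altCongrHom.toMonoidHom '' Set.range (altGen (Fin 2) 0) from Set.range_comp _ _,
        ← MonoidHom.map_closure, closure_altGen, Subgroup.map_top_of_surjective _ E.altCongrHom.surjective]

end Cfsg.Agent.Lib.ShortPres
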